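import Mathlib
import Cfsg.Agent.H41.M23
import Cfsg.Agent.H45.FiTw
import Cfsg.Agent.H45.FiT23

/-!
# The models of the levels 21, 22, 23
-/

set_option autoImplicit false
set_option maxRecDepth 1000000

namespace Cfsg.Agent.H45

open Cfsg.Agent.H41 Cfsg.Agent.H42 Equiv

/-- The tables of level 21. -/
noncomputable def ts21 : List Tr := [t21_0, t21_1, t21_2, t21_3, t21_4, t21_5, t21_6, t21_7, t21_8, t21_9, t21_10, t21_11, t21_12, t21_13]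

/-- The model of level 21. -/
noncomputable def cf21 : Cf := ⟨N21.ap, ppT 7 10 3 ts21, 180, 0, 10, [227, 602, 361, 41, 195, 369]⟩

theorem hi21 (i : ℕ) (h : 14 ≤ i) : N21.π i = 1 := genN_of_le _ _ _ h

theorem let21 (i : ℕ) : N21.π i = 1 ∨ i ∈ L21.pl := by
  by_cases h : i < 14
  · interval_cases i
    · exact Or.inr (by decide)
    · exact Or.inr (by decide)
    · exact Or.inr (by decide)
    · exact Or.inr (by decide)
    · exact Or.inr (by decide)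
    · exact Or.inl rfl
    · exact Or.inl rfl
    · exact Or.inr (by decide)
    · exact Or.inr (by decide)
    · exact Or.inl rfl
    · exact Or.inl rfl
    · exact Or.inl rfl
    · exact Or.inl rfl
    · exact Or.inr (by decide)
  · exact Or.inl (hi21 i (by omega))

theorem pre21 : Mdl ⟨N21.ap, ppT 7 10 3 ts21, 180, 0, 10, [437, 180, 0, 38, 21, 16, 20, 52]⟩ N21.π L21.F ∧
    ∀ i, N21.π i ∈ L21.F.grp :=
  mdl_of_lev (ts := ts21) L21.lev N21.act L21.TP let21 (by norm_num) (by norm_num) (by norm_num) (by norm_num)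
    (fun i hi => by
      change i < 14 at hi
      interval_cases i
      exacts [t21_0_ok, t21_1_ok, t21_2_ok, t21_3_ok, t21_4_ok, t21_5_ok, t21_6_ok, t21_7_ok, t21_8_ok, t21_9_ok, t21_10_ok, t21_11_ok, t21_12_ok, t21_13_ok])
    hi21 (by decide +kernel)

theorem mem21 (i : ℕ) : N21.π i ∈ L21.F.grp := pre21.2 i

theorem md21 : Mdl cf21 N21.π L21.F :=
  pre21.1.rebase (prog := [.tr 0 0, .tr 1 1, .tr 2 2, .tr 3 3, .tr 4 4, .tr 5 5, .mac 3 [5], .mac 6 [5, 4, 0, 1, 5, 4, 2, 1, 5], .mac 6 [4, 1, 5, 0, 3, 1, 0, 5, 4, 2, 0, 5], .mac 7 [4, 1, 0, 5, 3, 4], .mac 9 [4, 3, 1, 5, 4, 1], .mac 9 [3, 2, 0, 1, 4, 3, 0, 5], .mac 11 [0, 5, 4, 0, 1, 5, 4, 3, 1], .mac 12 [5]])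
    (W := [[0, 8, 13, 3, 2, 1], [3, 7, 8, 13, 3, 2, 1], [0, 13, 8, 7, 3, 2, 1], [1, 0, 8, 13, 3, 2, 1], [0, 4, 8, 7, 3, 2, 1], [0, 13, 3, 2, 1]]) (by decide +kernel)

/-- The tables of level 22. -/
noncomputable def ts22 : List Tr := [t22_0, t22_1, t22_2, t22_3, t22_4, t22_5, t22_6, t22_7, t22_8, t22_9, t22_10, t22_11, t22_12, t22_13]

/-- The model of level 22. -/
noncomputable def cf22 : Cf := ⟨N22.ap, ppT 8 12 4 ts22, 693, 6, 12, [2616, 2192, 187, 2356, 2312, 89]⟩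

theorem hi22 (i : ℕ) (h : 14 ≤ i) : N22.π i = 1 := genN_of_le _ _ _ h

theorem let22 (i : ℕ) : N22.π i = 1 ∨ i ∈ L22.pl := by
  by_cases h : i < 14
  · interval_cases i
    · exact Or.inr (by decide)
    · exact Or.inr (by decide)
    · exact Or.inr (by decide)
    · exact Or.inr (by decide)
    · exact Or.inr (by decide)
    · exact Or.inr (by decide)
    · exact Or.inr (by decide)
    · exact Or.inr (by decide)
    · exact Or.inr (by decide)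
    · exact Or.inl rfl
    · exact Or.inl rfl
    · exact Or.inl rfl
    · exact Or.inl rfl
    · exact Or.inr (by decide)
  · exact Or.inl (hi22 i (by omega))

theorem pre22 : Mdl ⟨N22.ap, ppT 8 12 4 ts22, 693, 6, 12, [825, 437, 180, 0, 38, 21, 16, 20, 52, 693]⟩ N22.π L22.F ∧
    ∀ i, N22.π i ∈ L22.F.grp :=
  mdl_of_lev (ts := ts22) L22.lev N22.act L22.TP let22 (by norm_num) (by norm_num) (by norm_num) (by norm_num)
    (fun i hi => by
      change i < 14 at hi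
      interval_cases i
      exacts [t22_0_ok, t22_1_ok, t22_2_ok, t22_3_ok, t22_4_ok, t22_5_ok, t22_6_ok, t22_7_ok, t22_8_ok, t22_9_ok, t22_10_ok, t22_11_ok, t22_12_ok, t22_13_ok])
    hi22 (by decide +kernel)

theorem mem22 (i : ℕ) : N22.π i ∈ L22.F.grp := pre22.2 i

theorem md22 : Mdl cf22 N22.π L22.F :=
  pre22.1.rebase (prog := [.tr 0 0, .tr 1 1, .tr 2 2, .tr 3 3, .tr 4 4, .tr 5 5, .mac 5 [1, 5, 4, 5, 3, 2, 4, 5, 3], .mac 5 [4, 5, 3, 2, 0, 4, 2, 5, 3, 4], .mac 7 [3, 4, 1, 2, 3], .mac 6 [5, 3, 4, 1, 5, 4, 3], .mac 6 [4, 3, 4, 1, 2, 5, 0, 4], .mac 10 [3, 4, 1, 5, 4, 5, 2, 3, 5], .mac 11 [5, 4, 3, 2, 1, 4, 5, 2, 3], .mac 10 [3, 4, 1, 5, 3, 0, 4, 5], .mac 11 [0, 3, 5, 4, 3, 1, 5, 4], .mac 13 [5, 2]])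
    (W := [[7, 8, 13, 3, 4, 5], [2, 8, 7, 3, 4, 5], [1, 2, 4, 3, 5, 4, 6, 5], [3, 6, 13, 8, 7, 3, 4, 5], [4, 3, 7, 13, 3, 4, 5], [5, 6, 13, 8, 7, 3, 4, 5]]) (by decide +kernel)

theorem tw22 : Tw (n := 693) (n' := 3510) (by norm_num) L21.F L22.F :=
  tw_of_lev L22.lev L21.kerP L21.sat (L22.sat.mono fun r hr => List.mem_append_left _ hr) L22.res L22.triv
    L21.grp_eq L22.grp_eq ⟨⟨694, by norm_num⟩, by rw [L22.lev.cl]; simp⟩

theorem st22 (i : ℕ) (hi : i ∈ all21) : N22.π i ∈ Tw.St (n := 693) (by norm_num) L22.F :=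
  ⟨mem22 i, L22.lev.fix _ (mem_clos _ hi)⟩

theorem up22 {E : List (List ℕ)} {P : List ℕ} (hE : letB all21 E = true) {b : ℕ}
    (hb : Nat.card (gst N21.π L21.F ⟨E, P, [], []⟩) ≤ b) :
    Nat.card (gst N22.π L22.F ⟨E, 693 :: P, [], []⟩) ≤ 2 * b := tw22.gst_up L22.res hE hb

theorem dn22 {E : List (List ℕ)} {P : List ℕ} (hE : letB all21 E = true) (hP : ∀ p ∈ P, p < 693)
    (hodd : ∀ w ∈ E, ∃ m, Odd m ∧ wp N22.π w ^ m = 1) {b : ℕ}
    (hb : Nat.card (gst N22.π L22.F ⟨E, 693 :: P, [], []⟩) ≤ 2 * b) :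
    Nat.card (gst N21.π L21.F ⟨E, P, [], []⟩) ≤ b := tw22.gst_dn L22.res st22 hE hP hodd hb

/-- The tables of level 23. -/
noncomputable def ts23 : List Tr := [t23_0, t23_1, t23_2, t23_3, t23_4, t23_5, t23_6, t23_7, t23_8, t23_9, t23_10, t23_11, t23_12, t23_13]

/-- The model of level 23. -/
noncomputable def cf23 : Cf := ⟨N23.ap, ppT 9 15 6 ts23, 3510, 12, 15, [5268, 14070, 22941, 2609, 17868, 21568]⟩

theorem hi23 (i : ℕ) (h : 14 ≤ i) : N23.π i = 1 := genN_of_le _ _ _ h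

theorem let23 (i : ℕ) : N23.π i = 1 ∨ i ∈ L23.pl := by
  by_cases h : i < 14
  · interval_cases i
    · exact Or.inr (by decide)
    · exact Or.inr (by decide)
    · exact Or.inr (by decide)
    · exact Or.inr (by decide)
    · exact Or.inr (by decide)
    · exact Or.inr (by decide)
    · exact Or.inr (by decide)
    · exact Or.inr (by decide)
    · exact Or.inr (by decide)
    · exact Or.inr (by decide)
    · exact Or.inl rfl
    · exact Or.inl rfl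
    · exact Or.inr (by decide)
    · exact Or.inr (by decide)
  · exact Or.inl (hi23 i (by omega))

theorem pre23 : Mdl ⟨N23.ap, ppT 9 15 6 ts23, 3510, 12, 15, [3781, 825, 437, 180, 0, 38, 21, 16, 20, 52, 693, 3510]⟩ N23.π L23.F ∧
    ∀ i, N23.π i ∈ L23.F.grp :=
  mdl_of_lev (ts := ts23) L23.lev N23.act L23.TP let23 (by norm_num) (by norm_num) (by norm_num) (by norm_num)
    (fun i hi => by
      change i < 14 at hi
      interval_cases i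
      exacts [t23_0_ok, t23_1_ok, t23_2_ok, t23_3_ok, t23_4_ok, t23_5_ok, t23_6_ok, t23_7_ok, t23_8_ok, t23_9_ok, t23_10_ok, t23_11_ok, t23_12_ok, t23_13_ok])
    hi23 (by decide +kernel)

theorem mem23 (i : ℕ) : N23.π i ∈ L23.F.grp := pre23.2 i

theorem md23 : Mdl cf23 N23.π L23.F :=
  pre23.1.rebase (prog := [.tr 0 0, .tr 1 1, .tr 2 2, .tr 3 3, .tr 4 4, .tr 5 5, .mac 4 [4, 2, 0, 3, 5, 0, 2, 5, 3, 2], .mac 6 [2, 4, 5, 1, 2, 0, 3, 2, 4, 5], .mac 6 [5, 2, 0, 4, 5, 0, 2, 4, 5, 2], .mac 6 [0, 2, 4, 5, 1, 2, 0, 5, 3], .mac 9 [2, 1, 5, 4, 3, 5, 1, 2, 4, 5], .mac 10 [1, 5, 2, 4, 5, 0, 4, 2, 3], .mac 9 [3, 0, 2, 5, 3, 0, 4], .mac 12 [2, 1, 0, 5, 2, 3, 1, 5, 2], .mac 11 [3, 2, 4, 5, 0, 2, 1, 5, 3], .mac 12 [2, 3, 0, 4, 2, 5, 3, 1, 0, 5], .mac 15 [5, 4, 3, 5, 2, 1, 5, 2, 4], .mac 16 [5, 2, 0, 2, 3, 1, 2, 5]])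
    (W := [[7, 13, 3, 2, 8, 7, 3, 13, 9], [2, 7, 9, 13, 3, 7, 8, 13, 9], [1, 2, 7, 13, 3, 7, 8, 13, 9], [5, 13, 3, 8, 9, 6, 13, 9], [1, 2, 4, 3, 6, 8, 13, 9], [1, 3, 2, 8, 7, 3, 13, 9]]) (by decide +kernel)

theorem tw23 : Tw (n := 3510) (n' := 31671) (by norm_num) L22.F L23.F :=
  tw_of_lev L23.lev L22.kerP L22.sat (L23.sat.mono fun r hr => List.mem_append_left _ hr) L23.res L23.triv
    L22.grp_eq L23.grp_eq ⟨⟨3511, by norm_num⟩, by rw [L23.lev.cl]; simp⟩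

theorem st23 (i : ℕ) (hi : i ∈ all22) : N23.π i ∈ Tw.St (n := 3510) (by norm_num) L23.F :=
  ⟨mem23 i, L23.lev.fix _ (mem_clos _ hi)⟩

theorem up23 {E : List (List ℕ)} {P : List ℕ} (hE : letB all22 E = true) {b : ℕ}
    (hb : Nat.card (gst N22.π L22.F ⟨E, P, [], []⟩) ≤ b) :
    Nat.card (gst N23.π L23.F ⟨E, 3510 :: P, [], []⟩) ≤ 2 * b := tw23.gst_up L23.res hE hb

theorem dn23 {E : List (List ℕ)} {P : List ℕ} (hE : letB all22 E = true) (hP : ∀ p ∈ P, p < 3510)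
    (hodd : ∀ w ∈ E, ∃ m, Odd m ∧ wp N23.π w ^ m = 1) {b : ℕ}
    (hb : Nat.card (gst N23.π L23.F ⟨E, 3510 :: P, [], []⟩) ≤ 2 * b) :
    Nat.card (gst N22.π L22.F ⟨E, P, [], []⟩) ≤ b := tw23.gst_dn L23.res st23 hE hP hodd hb

end Cfsg.Agent.H45
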