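import Mathlib
import Cfsg.Agent.H41.M24
import Cfsg.Agent.H45.FiM23
import Cfsg.Agent.H45.FiT24a
import Cfsg.Agent.H45.FiT24b
import Cfsg.Agent.H45.FiT24c
import Cfsg.Agent.H45.FiT24d

/-!
# The model of level 24
-/

set_option autoImplicit false
set_option maxRecDepth 1000000

namespace Cfsg.Agent.H45

open Cfsg.Agent.H41 Cfsg.Agent.H42 Equiv

/-- The tables of level 24. -/
noncomputable def ts24 : List Tr := [t24_0, t24_1, t24_2, t24_3, t24_4, t24_5, t24_6, t24_7, t24_8, t24_9, t24_10, t24_11, t24_12, t24_13]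

/-- The model of level 24. -/
noncomputable def cf24 : Cf := ⟨N24.ap, ppT 9 19 10 ts24, 31671, 11, 19, [38609, 288217, 159512, 59593, 356]⟩

theorem hi24 (i : ℕ) (h : 14 ≤ i) : N24.π i = 1 := genN_of_le _ _ _ h

theorem let24 (i : ℕ) : N24.π i = 1 ∨ i ∈ L24.pl := by
  by_cases h : i < 14
  · interval_cases i
    · exact Or.inr (by decide)
    · exact Or.inr (by decide)
    · exact Or.inr (by decide)
    · exact Or.inr (by decide)
    · exact Or.inr (by decide)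
    · exact Or.inr (by decide)
    · exact Or.inr (by decide)
    · exact Or.inr (by decide)
    · exact Or.inr (by decide)
    · exact Or.inr (by decide)
    · exact Or.inr (by decide)
    · exact Or.inr (by decide)
    · exact Or.inr (by decide)
    · exact Or.inr (by decide)
  · exact Or.inl (hi24 i (by omega))

theorem pre24 : Mdl ⟨N24.ap, ppT 9 19 10 ts24, 31671, 11, 19, [169304, 3781, 825, 437, 180, 0, 38, 21, 16, 20, 52, 693, 3510, 31671]⟩ N24.π L24.F ∧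
    ∀ i, N24.π i ∈ L24.F.grp :=
  mdl_of_lev (ts := ts24) L24.lev N24.act L24.TP let24 (by norm_num) (by norm_num) (by norm_num) (by norm_num)
    (fun i hi => by
      change i < 14 at hi
      interval_cases i
      exacts [t24_0_ok, t24_1_ok, t24_2_ok, t24_3_ok, t24_4_ok, t24_5_ok, t24_6_ok, t24_7_ok, t24_8_ok, t24_9_ok, t24_10_ok, t24_11_ok, t24_12_ok, t24_13_ok])
    hi24 (by decide +kernel)

theorem mem24 (i : ℕ) : N24.π i ∈ L24.F.grp := pre24.2 i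

theorem md24 : Mdl cf24 N24.π L24.F :=
  pre24.1.rebase (prog := [.tr 0 0, .tr 1 1, .tr 2 2, .tr 3 3, .tr 4 4, .mac 4 [0, 3, 4, 1, 2, 4, 0, 1, 3, 2], .mac 4 [0, 2, 1, 4, 0, 4, 3, 0, 1, 2, 3, 4], .mac 6 [4, 3, 1, 0, 1, 4, 2, 3, 1, 4, 2, 1, 3, 2], .mac 5 [4, 3, 2, 1, 4, 2, 3, 0, 1, 2, 3, 0, 4], .mac 5 [4, 3, 1, 0, 4, 3, 2, 4, 3, 1, 2, 0, 4], .mac 9 [1, 3, 4, 2, 3, 0, 2, 1, 4, 2, 3, 4], .mac 9 [0, 1, 3, 4, 0, 4, 2, 1, 4, 0, 3, 2], .mac 10 [1, 2, 4, 1, 0, 3, 2, 4, 1, 3, 0, 2], .mac 10 [2, 3, 4, 2, 1, 4, 0, 3, 1, 0, 3, 4], .mac 13 [3, 4, 1, 3, 2, 0, 1, 3, 2, 1, 3, 4], .mac 12 [4, 1, 2, 4, 0, 3, 4, 2, 0, 3, 1, 4], .mac 14 [1, 0, 4, 1, 3, 4, 2, 1, 4, 0, 2, 3], .mac 16 [3, 2, 3, 1, 0, 4, 3, 4, 2, 4, 1, 3, 2], .mac 16 [2, 4, 0, 4, 3, 2, 0, 2, 1, 3, 2, 4]])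
    (W := [[0, 4, 13, 3, 7, 8, 13, 10], [7, 3, 4, 5, 6, 13, 8, 9, 13, 10], [1, 0, 9, 6, 11, 13, 8, 9, 13, 10], [6, 12, 9, 13, 3, 8, 9, 13, 10], [1, 3, 8, 10, 0, 13, 10]]) (by decide +kernel)

theorem tw24 : Tw (n := 31671) (n' := 306936) (by norm_num) L23.F L24.F :=
  tw_of_lev L24.lev L23.kerP L23.sat (L24.sat.mono fun r hr => List.mem_append_left _ hr) L24.res L24.triv
    L23.grp_eq L24.grp_eq ⟨⟨31672, by norm_num⟩, by rw [L24.lev.cl]; simp⟩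

theorem st24 (i : ℕ) (hi : i ∈ all23) : N24.π i ∈ Tw.St (n := 31671) (by norm_num) L24.F :=
  ⟨mem24 i, L24.lev.fix _ (mem_clos _ hi)⟩

theorem up24 {E : List (List ℕ)} {P : List ℕ} (hE : letB all23 E = true) {b : ℕ}
    (hb : Nat.card (gst N23.π L23.F ⟨E, P, [], []⟩) ≤ b) :
    Nat.card (gst N24.π L24.F ⟨E, 31671 :: P, [], []⟩) ≤ 2 * b := tw24.gst_up L24.res hE hb

theorem dn24 {E : List (List ℕ)} {P : List ℕ} (hE : letB all23 E = true) (hP : ∀ p ∈ P, p < 31671)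
    (hodd : ∀ w ∈ E, ∃ m, Odd m ∧ wp N24.π w ^ m = 1) {b : ℕ}
    (hb : Nat.card (gst N24.π L24.F ⟨E, 31671 :: P, [], []⟩) ≤ 2 * b) :
    Nat.card (gst N23.π L23.F ⟨E, P, [], []⟩) ≤ b := tw24.gst_dn L24.res st24 hE hP hodd hb

end Cfsg.Agent.H45
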