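import Cfsg.Agent.H45.IvAll1
import Cfsg.Agent.H45.GdDefs
import Cfsg.Agent.H1.GdQ1
import Cfsg.Agent.H58.CyY2
import Cfsg.Agent.H75.CyQe
import Cfsg.Agent.H34.CyNil
import Cfsg.Agent.H1.GdQ0
import Cfsg.Agent.H68.GdEn
import Cfsg.Agent.H13.GdAl
import Cfsg.Agent.H89.CyQ3
import Cfsg.Agent.H87.GdQ2
import Cfsg.Agent.H58.CyOd
import Cfsg.Agent.H5.CyGdA1
import Cfsg.Agent.H98.GdQs
import Cfsg.Agent.H67.CyGc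
import Cfsg.Agent.H91.GdUx
import Cfsg.Agent.H24.CyCx
import Cfsg.Agent.H2.CyQ4
import Cfsg.Agent.H90.CyMk
import Cfsg.Agent.H47.CyQ5
import Cfsg.Agent.H19.GdD
import Cfsg.Agent.H88.CyD0
import Cfsg.Agent.H34.CyA2
import Cfsg.Agent.H28.GdQb
import Cfsg.Agent.H3.CyGdS
import Cfsg.Agent.H84.GdFp

/-! Project CY, chapter IV closed. -/

namespace Cfsg.Agent.H45.IvAll

open Cfsg.Agent.H11.Cy Cfsg.Agent.H45.Iv Cfsg.Agent.H45.Gd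

theorem goodS  : GoodStmt :=
  good Cfsg.Agent.H61.IvTg.tg Cfsg.Agent.H75.CyGa.ga Cfsg.Agent.H71.CyGb.gb
    Cfsg.Agent.H34.CyNil.nilS
    Cfsg.Agent.H1.GdQ0.q0
    Cfsg.Agent.H1.GdQ1.q1
    Cfsg.Agent.H28.GdQb.qb
    Cfsg.Agent.H87.GdQ2.q2
    Cfsg.Agent.H89.CyQ3.q3
    Cfsg.Agent.H2CyQ4.q4
    Cfsg.Agent.H75.CyQe.qe
    Cfsg.Agent.H98.GdQs.qs
    Cfsg.Agent.H47.CyQ5.q5
    (mixed Cfsg.Agent.H90.CyMk.mk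
      Cfsg.Agent.H84.GdFp.fp
      Cfsg.Agent.H3.CyGdS.s
      Cfsg.Agent.H58.CyY2.yS
      Cfsg.Agent.H58.CyOd.odS
      Cfsg.Agent.H67.CyGc.gc
      Cfsg.Agent.H19.GdD.d
      Cfsg.Agent.H88.CyD0.d0
      Cfsg.Agent.H5.CyGdA1.a1
      Cfsg.Agent.H34.CyA2.a2
      Cfsg.Agent.H13.GdAl.al
      Cfsg.Agent.H91.GdUx.ux
      Cfsg.Agent.H24.CyCx.cx
      Cfsg.Agent.H68.GdEn.en)

theorem ivS  : IvStmt := iv_of_good (goodS )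

end Cfsg.Agent.H45.IvAll
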