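import Cfsg.Agent.H17.KnDefs
import Cfsg.Agent.H89.Sy

/-!
# Project KN, piece GEN: general lemmas on finite groups
-/

set_option autoImplicit false

namespace Cfsg.Agent.H45.KnGen

open Equiv Subgroup Cfsg.Agent.H63 Cfsg.Agent.H17.Kn
open Cfsg.Agent.H89.Rec

universe u

variable {G : Type u} [Group G] [Finite G]

theorem exS {K Y : Subgroup G} (hY : IsPGroup 2 Y) (h : Y ≤ K) : ∃ S, Y ≤ S ∧ Syl S K := by
  obtain ⟨P, hP⟩ := (hY.comap_subtype (K := K)).exists_le_sylow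
  refine ⟨(P : Subgroup K).map K.subtype, fun y hy => ⟨⟨y, h hy⟩, hP hy, rfl⟩,
    Syl.of_sylow (map_subtype_le _) P ?_⟩
  rw [subgroupOf, comap_map_eq_self_of_injective K.subtype_injective]

theorem one (Y : Subgroup G) (g : G) (hY : IsPGroup 2 Y) (hg : g ∈ Y) (ho : Odd (orderOf g)) :
    g = 1 :=
  let ⟨_, hn⟩ := hY ⟨g, hg⟩
  eq_one_of_odd_of_pow ho (congrArg Subtype.val hn)

theorem core {O Y X : Subgroup G} (hO : ∀ o ∈ O, Odd (orderOf o)) (hY : IsPGroup 2 Y)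
    (hN : Y ≤ N[O]) (hX : IsPGroup 2 X) (hle : X ≤ O ⊔ Y) :
    ∃ k ∈ O, ∀ a ∈ X, k * a * k⁻¹ ∈ Y := by
  obtain ⟨S, h1, h2⟩ := exS hY (le_sup_right : Y ≤ O ⊔ Y)
  have h3 : S = Y := by
    refine le_antisymm (fun s hs => ?_) h1
    obtain ⟨o, ho, y, hy, e⟩ := mem_sup_nrm hN (h2.le hs)
    have : o = 1 := one S o h2.grp (by
      have := S.mul_mem hs (S.inv_mem (h1 hy))
      rwa [e, mul_inv_cancel_right] at this) (hO o ho)
    rw [e, this, one_mul]; exact hy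
  rw [h3] at h2
  obtain ⟨k, hk, h4⟩ := h2.exists_conj_le hle hX
  obtain ⟨o, ho, y, hy, e⟩ := mem_sup_nrm hN hk
  refine ⟨y⁻¹ * o * y⁻¹⁻¹, nrm_conj (hN (Y.inv_mem hy)) ho, fun a ha => ?_⟩
  have := conj_mem (Y.inv_mem hy) (h4 a ha)
  rw [e] at this
  convert this using 1
  group

theorem grow (Y S : Subgroup G) (hS : IsPGroup 2 S) (h : Y ≤ S)
    (hn : ∀ n ∈ S, n ∈ N[Y] → n ∈ Y) : S = Y := by
  have := hS.isNilpotent
  by_contra hne
  have hlt : Y.subgroupOf S < ⊤ := by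
    rw [lt_top_iff_ne_top, Ne, subgroupOf_eq_top]
    exact fun h' => hne (le_antisymm h' h)
  obtain ⟨n, h1, h2⟩ := SetLike.exists_of_lt (normalizerCondition_of_isNilpotent _ hlt)
  rw [← subgroupOf_normalizer_eq h] at h1
  exact h2 (hn n n.2 h1)

theorem dec (C Z : Subgroup G) (h : Syl Z C) (hc : ∀ a ∈ Z, ∀ b ∈ C, Commute a b) :
    ∃ O : Subgroup G, O ≤ C ∧ (∀ c ∈ C, c ∈ O ↔ Odd (orderOf c)) ∧ N[C] ≤ N[O] ∧
      ∀ c ∈ C, ∃ a ∈ Z, ∃ o ∈ O, c = a * o := by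
  obtain ⟨O, -, h2, h3⟩ := h.twoNil fun k hk _ r hr => (hc r hr k hk).symm
  refine ⟨O, fun y hy => ((h2 y).1 hy).1, fun c hc => by rw [h2]; exact and_iff_right hc,
    fun g hg => mem_nrm fun k hk => (h2 _).2 ⟨nrm_conj hg ((h2 k).1 hk).1, ?_⟩, fun c hcC => ?_⟩
  · rw [H10.orderOf_conj]; exact ((h2 k).1 hk).2
  · obtain ⟨o, ho, r, hr, e⟩ := h3 c hcC
    exact ⟨r, hr, o, ho, by rw [e, (hc r hr o ((h2 o).1 ho).1).eq]⟩

omit [Finite G] in
theorem ext (J : N2 → G) (X Y : Subgroup N2) (m : N2) (g : G) (hJ : Em J X) (hXY : X ≤ Y)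
    (hm : m ∈ Y) (hmX : m ∉ X) (h2 : ∀ u ∈ Y, u ∈ X ∨ m⁻¹ * u ∈ X) (hE : Ex J g m X)
    (hg : g * g = J (m * m)) (hgX : g ∉ im J X) :
    ∃ J' : N2 → G, Em J' Y ∧ (∀ u ∈ X, J' u = J u) ∧ J' m = g := by
  classical
  have mm : m * m ∈ X := (h2 _ (Y.mul_mem hm hm)).resolve_right (by
    rw [inv_mul_cancel_left]; exact hmX)
  have c1 : ∀ u ∈ X, m⁻¹ * u * m ∈ X := fun u hu =>
    (h2 _ (Y.mul_mem (Y.mul_mem (Y.inv_mem hm) (hXY hu)) hm)).resolve_right fun h => hmX (by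
      have := X.mul_mem (X.inv_mem hu) (X.mul_mem mm h)
      convert this using 1
      group)
  have c2 : ∀ u ∈ X, m * u * m⁻¹ ∈ X := fun u hu => by
    have := X.mul_mem (X.mul_mem mm (c1 u hu)) (X.inv_mem mm)
    convert this using 1
    group
  have out : ∀ u ∈ Y, u ∉ X → m⁻¹ * u ∈ X := fun u hu h => (h2 u hu).resolve_left h
  refine ⟨fun u => if u ∈ X then J u else g * J (m⁻¹ * u), ⟨fun u hu v hv => ?_,
    fun u hu v hv e => ?_⟩, fun u hu => if_pos hu, ?_⟩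
  · by_cases a : u ∈ X <;> by_cases b : v ∈ X
    · simp only [a, b, X.mul_mem a b, if_true]; exact hJ.mul u a v b
    · have : u * v ∉ X := fun h => b (by simpa using X.mul_mem (X.inv_mem a) h)
      simp only [a, b, this, if_true, if_false]
      have e1 : m⁻¹ * (u * v) = m⁻¹ * u * m * (m⁻¹ * v) := by group
      have e2 := hE _ (c1 u a)
      rw [R, show m * (m⁻¹ * u * m) * m⁻¹ = u by group] at e2
      rw [e1, hJ.mul _ (c1 u a) _ (out v hv b), ← e2]
      group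
    · have : u * v ∉ X := fun h => a (by simpa using X.mul_mem h (X.inv_mem b))
      simp only [a, b, this, if_true, if_false]
      rw [← mul_assoc, hJ.mul _ (out u hu a) _ b, mul_assoc]
    · have e1 : u * v = m * (m⁻¹ * u) * m⁻¹ * (m * m) * (m⁻¹ * v) := by group
      have m1 := c2 _ (out u hu a)
      have : u * v ∈ X := e1 ▸ X.mul_mem (X.mul_mem m1 mm) (out v hv b)
      simp only [a, b, this, if_true, if_false]
      have e2 := hE _ (out u hu a)
      rw [R] at e2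
      rw [e1, hJ.mul _ (X.mul_mem m1 mm) _ (out v hv b), hJ.mul _ m1 _ mm, ← e2, ← hg]
      group
  · have mix : ∀ u ∈ X, ∀ w ∈ X, J u ≠ g * J w := fun u hu w hw e => hgX (by
      have : g = J u * (J w)⁻¹ := by rw [e]; group
      rw [this]
      exact (im J X).mul_mem (mem_im hu) ((im J X).inv_mem (mem_im hw)))
    by_cases a : u ∈ X <;> by_cases b : v ∈ X <;> simp only [a, b, if_true, if_false] at e
    · exact hJ.inj u a v b e
    · exact absurd e (mix _ a _ (out v hv b))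
    · exact absurd e.symm (mix _ b _ (out u hu a))
    · exact mul_left_cancel (hJ.inj _ (out u hu a) _ (out v hv b) (mul_left_cancel e))
  · simp only [hmX, if_false, inv_mul_cancel, hJ.one, mul_one]

theorem gen : GenStmt.{u} := by
  intro G _ _
  refine ⟨?_, ext, ?_, dec, ?_, one, ?_, ?_, grow, ?_, ?_, ?_, ?_, ?_⟩
  · intro Γ _ H ρ hm hk X Y hX hY pX pY hXY
    have r1 : ρ 1 = 1 := by
      have := hm 1 H.one_mem 1 H.one_mem
      rw [one_mul] at this
      exact mul_eq_left.1 this.symm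
    have ri : ∀ g ∈ H, ρ g⁻¹ = (ρ g)⁻¹ := fun g hg => by
      rw [eq_inv_iff_mul_eq_one, ← hm _ (H.inv_mem hg) _ hg, inv_mul_cancel, r1]
    let O : Subgroup G :=
      { carrier := {g | g ∈ H ∧ ρ g = 1}
        one_mem' := ⟨H.one_mem, r1⟩
        mul_mem' := fun {a b} ha hb => ⟨H.mul_mem ha.1 hb.1, by
          rw [hm a ha.1 b hb.1, ha.2, hb.2, one_mul]⟩
        inv_mem' := fun {a} ha => ⟨H.inv_mem ha.1, by rw [ri a ha.1, ha.2, inv_one]⟩ }
    obtain ⟨k, h1, h2⟩ := core (O := O) (fun o ho => hk o ho.1 ho.2) pY (fun y hy =>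
      mem_nrm fun k hk => ⟨conj_mem (hY hy) hk.1, by
        rw [hm _ (H.mul_mem (hY hy) hk.1) _ (H.inv_mem (hY hy)), hm _ (hY hy) _ hk.1, hk.2,
          ri _ (hY hy), mul_one, mul_inv_cancel]⟩) pX (fun a ha => by
      obtain ⟨b, hb, e⟩ := hXY a ha
      have : a * b⁻¹ ∈ O := ⟨H.mul_mem (hX ha) (H.inv_mem (hY hb)), by
        rw [hm _ (hX ha) _ (H.inv_mem (hY hb)), ri _ (hY hb), e, mul_inv_cancel]⟩
      simpa using mul_mem_sup this hb)
    exact ⟨k, h1.1, h1.2, h2⟩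
  · intro C Z t c h hc ht hz hcC
    obtain ⟨O, o1, o2, o3, o4⟩ := dec C Z h hc
    obtain ⟨a, ha, o, ho, rfl⟩ := o4 c hcC
    have ta : t * a * t⁻¹ ∈ Z := by
      have hC := nrm_conj ht (h.le ha)
      obtain ⟨n, hn⟩ := h.grp ⟨a, ha⟩
      refine h.mem_of_nrm hC (mem_nrm fun k hk => ?_) (n := n) ?_
      · rw [← (hc k hk _ hC).eq, mul_inv_cancel_right]; exact hk
      · rw [conj_pow, show a ^ 2 ^ n = 1 from congrArg Subtype.val hn, mul_one, mul_inv_cancel]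
    have to' : t * o * t⁻¹ ∈ O := nrm_conj (o3 ht) ho
    have e : t * (a * o) * t⁻¹ * (a * o) = t * a * t⁻¹ * a * (t * o * t⁻¹ * o) := by
      have := (hc a ha _ (o1 to')).eq
      calc t * (a * o) * t⁻¹ * (a * o) = t * a * t⁻¹ * (t * o * t⁻¹ * a) * o := by group
        _ = _ := by rw [← this]; group
    have e1 : t * o * t⁻¹ * o = 1 := by
      refine one Z _ h.grp ?_ ((o2 _ (o1 (O.mul_mem to' ho))).1 (O.mul_mem to' ho))
      have := Z.mul_mem (Z.inv_mem (Z.mul_mem ta ha)) hz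
      rwa [e, inv_mul_cancel_left] at this
    exact ⟨a, ha, by rw [e, e1, mul_one]⟩
  · intro g y c k ho hc e h2
    have key : ∀ n : ℕ, g ^ n * y * (g ^ n)⁻¹ = y * c ^ n := fun n => by
      induction n with
      | zero => simp
      | succ n ih =>
        have h3 : g * c ^ n * g⁻¹ = c ^ n := by rw [(hc.pow_right n).eq, mul_inv_cancel_right]
        calc g ^ (n + 1) * y * (g ^ (n + 1))⁻¹ = g * (g ^ n * y * (g ^ n)⁻¹) * g⁻¹ := by
              rw [pow_succ']; group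
          _ = g * y * g⁻¹ * (g * c ^ n * g⁻¹) := by rw [ih]; group
          _ = y * c ^ (n + 1) := by rw [e, h3, pow_succ', mul_assoc]
    have := key (orderOf g)
    rw [pow_orderOf_eq_one, one_mul, inv_one, mul_one] at this
    exact eq_one_of_odd_of_pow (odd_of_pow ho (mul_eq_left.1 this.symm)) h2
  · intro K T hT hN
    obtain ⟨S, h1, h2⟩ := exS hT (le_sup_right : T ≤ K ⊔ T)
    refine ⟨S, h2.grp, h1, h2.le, h2, ?_⟩
    obtain ⟨P, h3, h4⟩ := exS (h2.grp.to_le (inf_le_left : S ⊓ K ≤ S)) (inf_le_right : S ⊓ K ≤ K)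
    obtain ⟨l, hl, h5⟩ := h2.exists_conj_le (h4.le.trans le_sup_left) h4.grp
    have hlN : l ∈ N[K] := (sup_le le_normalizer hN) hl
    have h6 : P.map (MulAut.conj l).toMonoidHom ≤ S ⊓ K := by
      rintro _ ⟨p, hp, rfl⟩
      exact ⟨h5 p hp, nrm_conj hlN (h4.le hp)⟩
    have h7 := card_le_of_le h6
    rw [card_map_of_injective (MulAut.conj l).injective] at h7
    rw [eq_of_le_of_card_ge h3 h7]
    exact h4
  · intro Y K hY hle hn
    obtain ⟨S, h1, h2⟩ := exS hY hle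
    refine ⟨S, h2.grp, h1, h2.le, ?_⟩
    by_contra hc
    push Not at hc
    have := grow Y S h2.grp h1 fun n hn hN => by
      by_contra h; exact hc n hn h hN
    exact hn (this ▸ h2)
  · intro Y K g h hg
    obtain ⟨k, hk, h2⟩ := h.exists_conj_le (X := Y.map (MulAut.conj g).toMonoidHom) (by
      rintro _ ⟨y, hy, rfl⟩; exact nrm_conj hg (h.le hy)) (h.grp.map _)
    refine ⟨k, hk, mem_nrm fun y hy => ?_⟩
    have := h2 _ ⟨y, hy, rfl⟩
    simpa [mul_assoc] using this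
  · intro Y O g hY hO hN hg
    obtain ⟨k, hk, h2⟩ := core (X := Y.map (MulAut.conj g).toMonoidHom) hO hY hN (hY.map _) (by
      rintro _ ⟨y, hy, rfl⟩
      obtain ⟨y', hy', o, ho, e⟩ := hg y hy
      change g * y * g⁻¹ ∈ _
      rw [e]
      exact mul_mem (mem_sup_right hy') (mem_sup_left ho))
    refine ⟨k, hk, mem_nrm fun y hy => ?_⟩
    have := h2 _ ⟨y, hy, rfl⟩
    simpa [mul_assoc] using this
  · intro a b ha hb ho
    exact H10.exists_pow_conj_of_odd hb ha ho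
  · intro S a b g hS _ hb _ e
    obtain ⟨k, hk, h2⟩ := hb.exists_conj_le
      (X := (S ⊓ C1[a]).map (MulAut.conj g).toMonoidHom) (by
        rintro _ ⟨y, hy, rfl⟩
        refine mem_centralizer_singleton_iff.2 ?_
        rw [← e]
        exact (commute_conj (show Commute y a from mem_centralizer_singleton_iff.1 hy.2) g).eq)
      ((hS.grp.to_le inf_le_left).map _)
    refine ⟨k * g, ?_, fun c hc hca => ?_⟩
    · have := mem_centralizer_singleton_iff.1 hk
      calc k * g * a * (k * g)⁻¹ = k * (g * a * g⁻¹) * k⁻¹ := by group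
        _ = b := by rw [e, this, mul_inv_cancel_right]
    · have := (h2 _ ⟨c, ⟨hc, mem_centralizer_singleton_iff.2 hca⟩, rfl⟩).1
      simpa [mul_assoc] using this
  · intro S Q t hG hS hQ ht htQ h2 tt
    have hI : Idx2 Q S := ⟨hQ, index_eq_two_iff'.2 ⟨⟨t, ht⟩⁻¹, fun b => by
      change Xor (t⁻¹ * (b : G) ∈ Q) ((b : G) ∈ Q)
      have h3 : ¬ (t⁻¹ * (b : G) ∈ Q ∧ (b : G) ∈ Q) := fun h => htQ (by
        simpa using Q.mul_mem h.2 (Q.inv_mem h.1))
      rcases h2 b b.2 with h | h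
      · exact Or.inr ⟨h, fun h' => h3 ⟨h', h⟩⟩
      · exact Or.inl ⟨h, fun h' => h3 ⟨h, h'⟩⟩⟩⟩
    by_contra hc
    push Not at hc
    obtain ⟨K', hK, -⟩ := hS.transfer hI ht htQ tt fun k _ => hc k
    exact hG K' (by rw [← relIndex_top_right]; exact hK.idx)

end Cfsg.Agent.H45.KnGen
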