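import Cfsg.Agent.H46.SDefs

/-! Project S95: the structure `OA` with the field `gl` corrected (`h` ranges over `Γ`). -/

set_option autoImplicit false
open scoped Pointwise commutatorElement
open Subgroup

namespace Cfsg.Agent.H45.SOa
open Cfsg.Agent.H46.S95

universe u

/-- facts for the first half of the construction of the lift in `ON` -/
structure OA2 {Γ : Type} [Group Γ] (z ζ : Γ) (B V : Subgroup Γ) : Prop extends BV z ζ B V where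
  der : ⁅Cz z, Cz z⁆ ≤ Cz ζ
  perf : ⁅Cz ζ, Cz ζ⁆ = Cz ζ
  gen : Cz ζ ≤ closure {l | l ∈ Cz ζ ∧ l * l = 1}
  cv : ∀ l ∈ Cz ζ, l ∈ centralizer (V : Set Γ) → l ∈ B
  vch : ∀ θ : MulAut (Cz ζ), ∃ c ∈ Cz ζ, ∀ v : Cz ζ, (v : Γ) ∈ V → c * θ v * c⁻¹ ∈ V
  gl : ∀ θ : MulAut V, ∃ h : Γ, ∀ v : V, h * (v : Γ) * h⁻¹ = (θ v : Γ)
  cV : ∀ α : MulAut Γ, (∀ v ∈ V, α v = v) → (∀ b ∈ B, α b = b) ∨ ∀ b ∈ B, α b = b⁻¹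
  psi : ∀ θ : MulAut B, (∀ v : B, (v : Γ) ∈ V → θ v = v) →
    (∀ p ∈ normalizer (B : Set Γ), p * z = z * p →
      (∀ b c : B, (c : Γ) = p * b * p⁻¹ → (θ c : Γ) = p * θ b * p⁻¹) ∨
      (∀ b c : B, (c : Γ) = p * b * p⁻¹ → (θ c : Γ) = (p * θ b * p⁻¹)⁻¹)) →
    θ = 1 ∨ ∀ b, θ b = b⁻¹
  cyc : ∃ ρ ∈ normalizer (B : Set Γ), ρ * (ρ * z * ρ⁻¹) * ρ⁻¹ = z * (ρ * z * ρ⁻¹)
  inB : ∀ θ : MulAut (Cz ζ), (∀ b : Cz ζ, (b : Γ) ∈ B → θ b = b) →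
    ∃ c ∈ B, ∀ l : Cz ζ, (θ l : Γ) = c * l * c⁻¹

def OnH1Stmt2 : Prop :=
  ∀ (Γ : Type) [Group Γ] (G : Type u) [Group G] [Finite G] (φ : Γ →* G) (t : G) (O : Subgroup G)
    (z ζ : Γ) (B V : Subgroup Γ), Base Γ → OA2 z ζ B V → Cx φ t O → IsConj t (t * φ z) →
    ∃ n, n * t * n⁻¹ = t * φ z ∧ ∀ l ∈ Cz ζ, n * φ l = φ l * n

def OnH2Stmt2 : Prop :=
  ∀ (Γ : Type) [Group Γ] (G : Type u) [Group G] [Finite G] (φ : Γ →* G) (t : G) (O : Subgroup G)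
    (z ζ x : Γ) (B V : Subgroup Γ) (n : G), Base Γ → OA2 z ζ B V → OB z ζ x B V → Cx φ t O →
    IsConj t (t * φ z) → n * t * n⁻¹ = t * φ z → (∀ l ∈ Cz ζ, n * φ l = φ l * n) →
    ∃ w, Hat φ t O z w

end Cfsg.Agent.H45.SOa
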