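import Cfsg.Agent.H34.UKit0
import Cfsg.Agent.H31.HermStab

/-!
# Centralizers of inner involutions in unitary groups  (project UM, piece U-INN)
-/

set_option autoImplicit false
set_option linter.unusedSectionVars false

namespace Cfsg.Agent.H45.UInn

open Cfsg Cfsg.Agent.H63 Cfsg.Agent.H63.SL Cfsg.Agent.H34 Cfsg.Agent.H34.TW Cfsg.Agent.H34.UM
  Cfsg.Agent.H31 Subgroup Module
open Cfsg.Agent.H63.WR (cc)
open Cfsg.Agent.H27.End (is2_of_sq is2_of_mem mem_C1 mem_N_of_conj isPGroup_zpowers)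

universe u v

variable {F E V : Type v} [Field F] [Field E] [AddCommGroup V] [Module E V] [Finite F] [Finite E]
  [Finite V] [FiniteDimensional E V] {i : F →+* E} {σ : E ≃+* E}
  {B : V →ₛₗ[(σ : E →+* E)] V →ₗ[E] E} {G : Type u} [Group G] [Finite G] {φ : sisom B →* G}
  {L : Subgroup G}

instance : Finite (sisom B) :=
  Finite.of_injective (fun s : sisom B => (s.1 : V → V)) fun _ _ h => s_ext (congrFun h)

/-- A `2`-subgroup centralising `s` bounds `cc` from below. -/
theorem card_le (c : UCtx i φ L) {s : sisom B} {P : Subgroup (sisom B)} (hP : IsPGroup 2 P)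
    (h : ∀ r ∈ P, Commute r s) : Nat.card P ≤ 2 ^ cc L (φ s) := by
  have hi : Function.Injective (φ.comp P.subtype) := fun a b e =>
    Subtype.ext (c.inj2 (is2_of_mem hP a.2) (is2_of_mem hP b.2) e)
  have h1 : (φ.comp P.subtype).range ≤ L ⊓ C1[φ s] := by
    rintro _ ⟨r, rfl⟩
    exact ⟨c.mem _, mem_C1.2 ((h r r.2).map φ)⟩
  have h2 := card_dvd_of_le h1
  rw [← Nat.card_congr (MonoidHom.ofInjective hi).toEquiv] at h2
  obtain ⟨k, hk⟩ := IsPGroup.iff_card.1 hP
  rw [hk] at h2 ⊢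
  exact Nat.pow_le_pow_right two_pos
    ((Nat.prime_two.pow_dvd_iff_le_factorization Nat.card_pos.ne').1 h2)

theorem sub_mem_perp {S : Submodule E V} {r : sisom B} (h : ∀ x ∈ S, r.1 x = x) (x : V) :
    r.1 x - x ∈ perp B S := fun y hy => by
  have := iso_map r y x
  rw [h y hy] at this
  rw [map_sub, this, sub_self]

theorem isP_R0 (c : UCtx i φ L) (S : Submodule E V) : IsPGroup 2 (R0 B S) := by
  rintro ⟨r, h1, h2⟩
  have k : ∀ x, r.1 (r.1 x) - x ∈ S := fun x => by
    have := h2 _ (sub_mem_perp h1 x)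
    rwa [map_sub, c.sub_eq, c.sub_eq, c.sub_eq, add_assoc, ← add_assoc (r.1 x), c.add_self,
      zero_add, ← c.sub_eq] at this
  refine ⟨2, Subtype.ext (s_ext fun x => ?_)⟩
  change r.1 (r.1 (r.1 (r.1 x))) = x
  have e : r.1 (r.1 (r.1 (r.1 x))) = r.1 (r.1 (r.1 (r.1 x) - x)) + r.1 (r.1 x) := by simp
  rw [e, h1 _ (k x), h1 _ (k x), c.sub_eq, add_comm _ x, add_assoc, c.add_self, add_zero]

theorem fix_perp (c : UCtx i φ L) {S : Submodule E V} {s : sisom B} (h : ∀ x, s.1 x - x ∈ S)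
    {x : V} (hx : x ∈ perp B S) : s.1 x = x := by
  refine c.herm.ext_right fun z => ?_
  obtain ⟨z, rfl⟩ := s.1.surjective z
  have := hx _ (h z)
  rw [map_sub, LinearMap.sub_apply, sub_eq_zero] at this
  rw [iso_map, this]

theorem comm_R0 (c : UCtx i φ L) {S : Submodule E V} {s : sisom B} (h : ∀ x, s.1 x - x ∈ S) :
    ∀ r ∈ R0 B S, Commute r s := by
  rintro r ⟨h1, -⟩
  refine s_ext fun x => ?_
  have e1 := h1 _ (h x)
  have e2 := fix_perp c h (sub_mem_perp h1 x)
  rw [map_sub] at e1 e2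
  rw [mul_app, mul_app]
  linear_combination (norm := module) e1 - e2

theorem exists_max (c : UCtx i φ L) {W : Submodule E V} (hW : TotIso B W) :
    ∃ S U : Submodule E V, W ≤ S ∧ TotIso B S ∧ NondegOn B U ∧ S ⊔ U = perp B S ∧
      finrank E U + 2 * finrank E S = finrank E V ∧ finrank E U ≤ 1 := by
  obtain ⟨S, h1, h2⟩ := exists_maximal_ge_of_wellFoundedGT (TotIso B) W hW
  obtain ⟨U, k1, k2, k3, k4⟩ := c.herm.exists_nondeg_compl h2.1
  refine ⟨S, U, h1, h2.1, k1, k3, k4, ?_⟩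
  by_contra hc
  obtain ⟨u, hu, u0, hu'⟩ := c.herm.exists_isotropic k1 (by omega)
  have hp : u ∈ perp B S := k3 ▸ Submodule.mem_sup_right hu
  have ht : TotIso B (S ⊔ E ∙ u) := by
    intro x hx y hy
    obtain ⟨x, hx1, _, hx', rfl⟩ := Submodule.mem_sup.1 hx
    obtain ⟨y, hy1, _, hy', rfl⟩ := Submodule.mem_sup.1 hy
    obtain ⟨a, rfl⟩ := Submodule.mem_span_singleton.1 hx'
    obtain ⟨b, rfl⟩ := Submodule.mem_span_singleton.1 hy'
    simp [h2.1 x hx1 y hy1, hp x hx1, c.flip (hp y hy1), hu']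
  have := h2.2 ht le_sup_left (Submodule.mem_sup_right (Submodule.mem_span_singleton_self u))
  exact u0 (Submodule.disjoint_def.1 k2 u this hu)

/-- The hermitian matrices. -/
theorem exists_inj (c : UCtx i φ L) {S : Submodule E V} (hS : TotIso B S) :
    ∃ n : (Fin (finrank E S) → Fin (finrank E S) → F) → sisom B, Function.Injective n ∧
      ∀ A, (∀ x ∈ perp B S, (n A).1 x = x) := by
  obtain ⟨ω, hω⟩ := c.qf.tr
  let b : Fin (finrank E S) → V := fun j => finBasis E S j
  have hb : LinearIndependent E b := (finBasis E S).linearIndependent.map' S.subtype S.ker_subtype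
  have hm : ∀ j, b j ∈ S := fun j => (finBasis E S j).2
  let H : (Fin (finrank E S) → Fin (finrank E S) → F) → Fin (finrank E S) → Fin (finrank E S) → E :=
    fun A j k => ω * i (A j k) + σ ω * i (A k j)
  have hH : ∀ A j k, σ (H A j k) = H A k j := fun A j k => by
    simp only [H, map_add, map_mul, c.qf.sq, c.qf.σ_i, add_comm]
  let N : (Fin (finrank E S) → Fin (finrank E S) → F) → V →ₗ[E] V := fun A =>
    ∑ j, ∑ k, (H A j k • B (b j)).smulRight (b k)
  have hN : ∀ A x, N A x = ∑ j, ∑ k, (H A j k * B (b j) x) • b k := fun A x => by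
    simp [N, LinearMap.sum_apply]
  have hN0 : ∀ A, ∀ x ∈ perp B S, N A x = 0 := fun A x hx => by
    simp [hN, hx _ (hm _)]
  have hNS : ∀ A x, N A x ∈ S := fun A x => by
    rw [hN]
    exact S.sum_mem fun j _ => S.sum_mem fun k _ => S.smul_mem _ (hm k)
  have hsym : ∀ A x y, B (N A x) y = B x (N A y) := fun A x y => by
    rw [hN, hN]
    simp only [map_sum, LinearMap.sum_apply, sm_left, sm_right, map_mul, hH, c.symm]
    rw [Finset.sum_comm]
    exact Finset.sum_congr rfl fun j _ => Finset.sum_congr rfl fun k _ => by ring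
  have hex : ∀ A, ∃ s : sisom B, ∀ x, s.1 x = x + N A x := fun A =>
    c.mk2 (LinearMap.id + N A) (fun x y => by
      simp only [LinearMap.add_apply, LinearMap.id_apply, map_add, hS _ (hNS A x) _ (hNS A y), hsym]
      linear_combination B x (N A y) * c.qf.two) (k := 1) (LinearMap.ext fun x => by
      change x + N A x + N A (x + N A x) = x
      rw [map_add, hN0 A _ (totIso_iff_le_perp.1 hS (hNS A x)), add_zero, add_assoc, c.add_self,
        add_zero])
  choose n hn using hex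
  refine ⟨n, fun A A' e => ?_, fun A x hx => by rw [hn, hN0 A x hx, add_zero]⟩
  have h1 : ∀ x k, ∑ j, H A j k * B (b j) x = ∑ j, H A' j k * B (b j) x := fun x => by
    have := hn A x
    rw [e, hn, add_right_inj, hN, hN, Finset.sum_comm, Finset.sum_comm (f := fun j k => _ • b k)]
      at this
    simp only [← Finset.sum_smul] at this
    exact fun k => (Fintype.linearIndependent_iffₛ.1 hb _ _ this k).symm
  have h2 : ∀ k j, H A k j = H A' k j := fun k => by
    refine Fintype.linearIndependent_iffₛ.1 hb _ _ (c.herm.ext_left fun x => ?_)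
    simp only [map_sum, LinearMap.sum_apply, sm_left, hH]
    exact h1 x k
  funext j k
  have h3 := h2 j k
  have h4 := h2 k j
  simp only [H, hω] at h3 h4
  have h5 : i (A j k) + i (A k j) = i (A' j k) + i (A' k j) := by
    linear_combination h3 + h4 - ω * (i (A j k) + i (A k j) - i (A' j k) - i (A' k j)) * c.qf.two
  exact i.injective (by linear_combination h4 - ω * h5)

theorem mem_R0_of {S : Submodule E V} (hS : TotIso B S) {r : sisom B}
    (h : ∀ x ∈ perp B S, r.1 x = x) : r ∈ R0 B S :=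
  ⟨fun x hx => h x (totIso_iff_le_perp.1 hS hx), fun x hx => by rw [h x hx, sub_self]; exact S.zero_mem⟩

theorem card_R0 (c : UCtx i φ L) {S : Submodule E V} (hS : TotIso B S) :
    Nat.card F ^ finrank E S ^ 2 ≤ Nat.card (R0 B S) := by
  obtain ⟨n, h1, h2⟩ := exists_inj c hS
  have := Nat.card_le_card_of_injective (fun A => (⟨n A, mem_R0_of hS (h2 A)⟩ : R0 B S))
    fun A A' e => h1 (congrArg Subtype.val e)
  rwa [Nat.card_fun, Nat.card_fun, Nat.card_fin, ← pow_mul, ← pow_two] at this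

theorem card_R0' (c : UCtx i φ L) {S : Submodule E V} (hS : TotIso B S) {d : V}
    (hd : d ∈ perp B S) (d0 : B d d ≠ 0) :
    Nat.card F ^ (finrank E S ^ 2 + 2 * finrank E S) ≤ Nat.card (R0 B S) := by
  obtain ⟨n, h1, h2⟩ := exists_inj c hS
  obtain ⟨a, ha⟩ := c.qf.invol.exists_trace_eq (a := B d d) (c.symm d d)
  have hex : ∀ v : S, ∃ r ∈ R0 B S, r.1 d = d + v := fun v => by
    have hv : (B d d)⁻¹ • (v : V) ∈ S := S.smul_mem _ v.2
    obtain ⟨r, hr, -⟩ := c.ee (hS _ hv _ hv) (hd _ hv) ha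
    refine ⟨r, ⟨fun x hx => ?_, fun x hx => ?_⟩, ?_⟩
    · rw [hr, hS _ hv x hx, c.flip (hd x hx)]; simp
    · rw [hr, hx _ hv]
      simpa using S.smul_mem _ hv
    · rw [hr, hd _ hv, smul_inv_smul₀ d0]; simp
  choose e he1 he2 using hex
  have key : ∀ A v, (n A * e v).1 d = d + v := fun A v => by
    rw [mul_app, he2, h2 A _ (add_mem hd (totIso_iff_le_perp.1 hS v.2))]
  have := Nat.card_le_card_of_injective
    (fun p : _ × S => (⟨n p.1 * e p.2, mul_mem (mem_R0_of hS (h2 p.1)) (he1 p.2)⟩ : R0 B S))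
    fun ⟨A, v⟩ ⟨A', v'⟩ h => by
      have h3 : n A * e v = n A' * e v' := congrArg Subtype.val h
      have h4 := key A v
      rw [h3, key, add_right_inj] at h4
      obtain rfl : v' = v := Subtype.ext h4
      rw [h1 (mul_right_cancel h3)]
  rwa [Nat.card_prod, Nat.card_fun, Nat.card_fun, Nat.card_fin, ← pow_mul, ← pow_two,
    Module.natCard_eq_pow_finrank (K := E) (V := S), c.qf.card, ← pow_mul, ← pow_add] at this

/-- An isotropic vector outside `S` with `B x (s x) = 0`. -/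
theorem exists_x (c : UCtx i φ L) {S : Submodule E V} (hS : perp B S = S)
    (h2 : finrank E S + 2 ≤ finrank E V) {s : sisom B} (hs : s * s = 1) (h : ∀ x, s.1 x - x ∈ S) :
    ∃ x ∉ S, B x x = 0 ∧ B x (s.1 x - x) = 0 := by
  have hss : ∀ x, s.1 (s.1 x) = x := fun x => by rw [← mul_app, hs]; rfl
  have hT : TotIso B S := totIso_iff_le_perp.2 hS.ge
  let B' : V →ₛₗ[(σ : E →+* E)] V →ₗ[E] E := B.compl₂ (s.1.toLinearMap - LinearMap.id)
  have hB' : ∀ x y, B' x y = B x (s.1 y - y) := fun _ _ => rfl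
  have hh : IsHermSymm B' := ⟨c.qf.invol, fun x y => by
    rw [hB', hB', RingHom.coe_coe, c.symm, map_sub, map_sub, LinearMap.sub_apply, ← iso_map s _ x,
      hss]⟩
  obtain ⟨x, hx, hx'⟩ : ∃ x ∉ S, B' x x = 0 := by
    obtain ⟨T, hT'⟩ := S.exists_isCompl
    have h3 := Submodule.finrank_add_eq_of_isCompl hT'
    by_cases hn : NondegOn B' T
    · obtain ⟨x, -, x0, hx⟩ := (hh.isHerm_restr hn).exists_isotropic (hh.isHerm_restr hn).nondegOn_top
        (by rw [finrank_top]; omega)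
      exact ⟨x, fun k => x0 (Subtype.ext (Submodule.disjoint_def.1 hT'.disjoint _ k x.2)), hx⟩
    · simp only [NondegOn, not_forall] at hn
      obtain ⟨x, hx, k, x0⟩ := hn
      exact ⟨x, fun k' => x0 (Submodule.disjoint_def.1 hT'.disjoint _ k' hx), k x hx⟩
  obtain ⟨y, hy, hy'⟩ := c.herm.exists_perp_of_notMem hx
  rw [hS] at hy
  obtain ⟨a, ha⟩ := c.qf.invol.exists_trace_eq (a := B x x) (c.symm x x)
  have y0 : B x y ≠ 0 := c.herm.toIsHermSymm.flip_ne_zero hy'
  have hz : (a / B x y) • y ∈ S := S.smul_mem _ hy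
  have hz' : B x ((a / B x y) • y) = a := by rw [sm_right, div_mul_cancel₀ _ y0]
  refine ⟨x + (a / B x y) • y, fun k => hx ((S.add_mem_iff_left hz).1 k), ?_, ?_⟩
  · rw [map_add, map_add, LinearMap.add_apply, LinearMap.add_apply, hT _ hz _ hz, ← c.symm x (_ • y), hz']
    rw [RingHom.coe_coe] at ha
    linear_combination ha + B x x * c.qf.two
  · rw [map_add s.1, fix_perp c h (hS.ge hz), add_sub_add_right_eq_sub, map_add, LinearMap.add_apply,
      hT _ hz _ (h x), add_zero]
    exact hx'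

theorem even_case (c : UCtx i φ L) {S : Submodule E V} (hS : perp B S = S)
    (h2 : 2 ≤ finrank E S) {s : sisom B} (hs : s * s = 1) (h : ∀ x, s.1 x - x ∈ S) :
    Nat.card (R0 B S) < 2 ^ cc L (φ s) := by
  have hT : TotIso B S := totIso_iff_le_perp.2 hS.ge
  obtain ⟨x, hx, h3, h4⟩ := exists_x c hS (by have := c.herm.two_mul_finrank_le hT; omega) hs h
  obtain ⟨v, hv, v0, h5, a, ha⟩ : ∃ v ∈ S, v ≠ 0 ∧ B v x = 0 ∧ ∃ a : F, s.1 x = x + i a • v := by
    by_cases e : s.1 x - x = 0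
    · have h6 := (B x ∘ₗ S.subtype).finrank_range_add_finrank_ker
      have h7 := Submodule.finrank_le (LinearMap.range (B x ∘ₗ S.subtype))
      rw [finrank_self] at h7
      obtain ⟨v, hv, v0⟩ := Submodule.exists_mem_ne_zero_of_ne_bot
        (p := LinearMap.ker (B x ∘ₗ S.subtype)) (fun k => by rw [k, finrank_bot] at h6; omega)
      exact ⟨v, v.2, fun k => v0 (Subtype.ext k), c.flip hv, 0, by simpa [sub_eq_zero] using e⟩
    · exact ⟨_, h x, e, c.flip h4, 1, by simp⟩
  have hvv := hT v hv v hv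
  obtain ⟨g, hg, -⟩ := c.ee (d := 0) hvv h5 (by simp [h3])
  simp only [zero_mul, zero_smul, add_zero] at hg
  have hgS : ∀ y ∈ S, g.1 y = y + B x y • v := fun y hy => by rw [hg, hT v hv y hy]; simp
  have hgg : ∀ y, g.1 (g.1 y) = y := fun y => by
    rw [hg (g.1 y), hg y]
    simp only [map_add, map_smul, hvv, h3, h5, c.flip h5, smul_eq_mul, mul_zero, add_zero]
    linear_combination (norm := module) c.add_self (B v y • x + B x y • v)
  have hg2 : g * g = 1 := s_ext hgg
  have hgi : g⁻¹ = g := inv_eq_of_mul_eq_one_right hg2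
  have hsv : s.1 v = v := fix_perp c h (hS.ge hv)
  have hc : Commute g s := s_ext fun y => by
    have e1 := iso_map s v y
    have e2 := iso_map s x y
    rw [hsv] at e1
    rw [ha, map_add, LinearMap.add_apply, sm_left, c.qf.σ_i, e1] at e2
    rw [mul_app, mul_app, hg, hg, map_add, map_add, map_smul, map_smul, hsv, ha, e1, ← e2]
    linear_combination (norm := module) -c.add_self ((i a * B v y) • v)
  have hN : g ∈ N[R0 B S] := mem_N_of_conj fun r hr => mem_R0_of hT fun y hy => by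
    rw [hS] at hy
    rw [hgi, mul_app, mul_app, hr.1 _ (by rw [hgS y hy]; exact S.add_mem hy (S.smul_mem _ hv)), hgg]
  have hP : IsPGroup 2 ↥(zpowers g ⊔ R0 B S) :=
    (isPGroup_zpowers (is2_of_sq hg2)).to_sup_of_normal_right' (isP_R0 c S) (zpowers_le.2 hN)
  refine lt_of_lt_of_le ?_ (card_le c hP fun r hr => mem_C1.1 ((sup_le (zpowers_le.2 (mem_C1.2 hc))
    fun r hr => mem_C1.2 (comm_R0 c h r hr) : _ ≤ C1[s]) hr))
  refine lt_of_le_of_ne (card_le_of_le le_sup_right) fun e => ?_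
  have h8 : g ∈ R0 B S := by
    rw [eq_of_le_of_card_ge le_sup_right e.ge]
    exact mem_sup_left (mem_zpowers g)
  obtain ⟨y, hy, hy'⟩ := c.herm.exists_perp_of_notMem hx
  rw [hS] at hy
  have h9 := h8.1 y hy
  rw [hgS y hy, add_eq_left, smul_eq_zero] at h9
  exact h9.elim (c.herm.toIsHermSymm.flip_ne_zero hy') v0

theorem main (c : UCtx i φ L) {j : G} (hj : j ∈ L) (h2 : j * j = 1) :
    Nat.card F ^ (finrank E V / 2) ^ 2 < 2 ^ cc L j ∧ (Odd (finrank E V) →
      Nat.card F ^ ((finrank E V / 2) ^ 2 + 2 * (finrank E V / 2)) ≤ 2 ^ cc L j) := by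
  obtain ⟨s, hs, rfl⟩ := c.lift2 hj (is2_of_sq h2)
  have hss : s * s = 1 := by
    refine c.one ?_ (by rw [map_mul, h2]; exact one_mem _)
    obtain ⟨k, hk⟩ := hs
    exact ⟨k, by rw [← pow_two, ← pow_mul, mul_comm, pow_mul, hk, one_pow]⟩
  have hs2 : ∀ x, s.1 (s.1 x) = x := fun x => by rw [← mul_app, hss]; rfl
  obtain ⟨S, U, h3, h4, h5, h6, h7, h8⟩ := exists_max c
    (W := LinearMap.range (s.1.toLinearMap - LinearMap.id)) (by
      rintro _ ⟨x, rfl⟩ _ ⟨y, rfl⟩
      change B (s.1 x - x) (s.1 y - y) = 0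
      have e := iso_map s x (s.1 y)
      rw [hs2] at e
      simp only [map_sub, LinearMap.sub_apply, iso_map, e]
      linear_combination (B x y - B x (s.1 y)) * c.qf.two)
  have h9 : ∀ x, s.1 x - x ∈ S := fun x => h3 ⟨x, rfl⟩
  have h4' := c.four
  have hk : finrank E V / 2 = finrank E S := by omega
  rw [hk]
  have hodd : finrank E U = 1 → Nat.card F ^ (finrank E S ^ 2 + 2 * finrank E S) ≤
      2 ^ cc L (φ s) := fun e => by
    obtain ⟨d, hd, d0⟩ := c.herm.toIsHermSymm.exists_norm_ne_zero h5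
      (fun k => by rw [k, finrank_bot] at e; omega)
    exact (card_R0' c h4 (h6 ▸ Submodule.mem_sup_right hd) d0).trans
      (card_le c (isP_R0 c S) (comm_R0 c h9))
  refine ⟨?_, fun ho => hodd (by obtain ⟨t, ht⟩ := ho; omega)⟩
  rcases h8.eq_or_lt with e | e
  · exact lt_of_lt_of_le (Nat.pow_lt_pow_right Finite.one_lt_card (by omega)) (hodd e)
  · have e' : U = ⊥ := Submodule.finrank_eq_zero.1 (by omega)
    rw [e', sup_bot_eq] at h6
    exact (card_R0 c h4).trans_lt (even_case c h6.symm (by omega) hss h9)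

theorem inn : InnStmt.{u, v} := by
  intro F E V _ _ _ _ _ _ _ _ i σ B G _ _ φ L c _ _ j hj h2
  exact main c hj h2

end Cfsg.Agent.H45.UInn
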