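import Mathlib
import Cfsg.Agent.H45.FiRep2
import Cfsg.Agent.H45.FiC23

/-!
# Local data in `Fi22` and `Fi23`
-/

set_option autoImplicit false
set_option maxRecDepth 1000000
set_option Elab.async false

namespace Cfsg.Agent.H45

open Cfsg.Agent.H41 Cfsg.Agent.H42 Equiv

/-- An element normalising the element of order 7 and fixing its fixed points. -/
def h7 : List ℕ := [5, 0, 3, 2, 1, 8, 3, 4]

theorem fr22_5 {G : Type*} [Group G] {D : Set G} (R : Rp cf22 N22.π L22.F G D) :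
    Frob (R.w x5) (R.w f5) 5 4 2 :=
  R.frob (b := 0) (by decide +kernel) (by norm_num) (by norm_num) (by norm_num) (by decide)

theorem fr22_7 {G : Type*} [Group G] {D : Set G} (R : Rp cf22 N22.π L22.F G D) :
    Frob (R.w x7) (R.w h7) 7 6 3 :=
  R.frob (b := 0) (by decide +kernel) (by norm_num) (by norm_num) (by norm_num) (by decide)

theorem fr22_11 {G : Type*} [Group G] {D : Set G} (R : Rp cf22 N22.π L22.F G D) :
    Frob (R.w x11) (R.w f11) 11 5 3 :=
  R.frob (b := 0) (by decide +kernel) (by norm_num) (by norm_num) (by norm_num) (by decide)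

theorem fr22_13 {G : Type*} [Group G] {D : Set G} (R : Rp cf22 N22.π L22.F G D) :
    Frob (R.w x13) (R.w f13) 13 6 4 :=
  R.frob (b := 0) (by decide +kernel) (by norm_num) (by norm_num) (by norm_num) (by decide)

/-- Fixed points. -/
def l22_5 : List ℕ := [180, 198, 454, 693, 787, 825, 899, 2195, 2233, 2307]

theorem fx22_5 : ∀ q : Fin 3510, wp N22.π x5 q = q ↔ (q : ℕ) ∈ l22_5 :=
  md22.fix_iff (by decide +kernel)

/-- Fixed points. -/
def l22_7 : List ℕ := [52, 1912, 3446]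

theorem fx22_7 : ∀ q : Fin 3510, wp N22.π x7 q = q ↔ (q : ℕ) ∈ l22_7 :=
  md22.fix_iff (by decide +kernel)

/-- Fixed points. -/
def l22_11 : List ℕ := [693]

theorem fx22_11 : ∀ q : Fin 3510, wp N22.π x11 q = q ↔ (q : ℕ) ∈ l22_11 :=
  md22.fix_iff (by decide +kernel)

theorem g22_5 : Nat.card (gst N22.π L22.F ⟨[x5], [], [], []⟩) ≤ 600 :=
  dn23 (b := 600) (by decide +kernel) (by simp) (odd_of md23 (p := 5) (by decide) (by decide +kernel))
    (card_gst_le.trans c5_1)

theorem g22_7 : Nat.card (gst N22.π L22.F ⟨[x7], [], [], []⟩) ≤ 42 :=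
  dn23 (b := 42) (by decide +kernel) (by simp) (odd_of md23 (p := 7) (by decide) (by decide +kernel))
    (card_gst_le.trans c7_1)

theorem g22_11 : Nat.card (gst N22.π L22.F ⟨[x11], [], [], []⟩) ≤ 22 :=
  dn23 (b := 22) (by decide +kernel) (by simp) (odd_of md23 (p := 11) (by decide) (by decide +kernel))
    (card_gst_le.trans c11_0)

theorem g22_13 : Nat.card (gst N22.π L22.F ⟨[x13], [], [], []⟩) ≤ 13 :=
  dn23 (b := 13) (by decide +kernel) (by simp) (odd_of md23 (p := 13) (by decide) (by decide +kernel))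
    (card_gst_le.trans c13_1)

theorem g22_E : Nat.card (gst N22.π L22.F ⟨[x5, y5], [], [], []⟩) ≤ 25 :=
  dn23 (b := 25) (by decide +kernel) (by simp)
    (fun w hw => by
      rcases List.mem_pair.mp hw with rfl | rfl
      exacts [⟨5, by decide, md23.pow_eq_one (by decide +kernel)⟩, ⟨5, by decide, md23.pow_eq_one (by decide +kernel)⟩])
    (card_gst_le.trans cE_1)

/-- Words for a Coxeter system. -/
def ws22_5 : List (List ℕ) := [[], [5], [1, 2, 3, 5, 4, 7, 3, 8, 7, 13, 3, 4, 5], [1, 0, 2, 1, 3, 2, 4, 3, 5, 4, 6, 5]]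

theorem row22_5 {G : Type*} [Group G] {D : Set G} (R : Rp cf22 N22.π L22.F G D) :
    ∃ A : Subgroup G, Nat.card A = 20 ∧ Subgroup.zpowers (R.w x5) ≤ A ∧
      A ⊓ Subgroup.centralizer (Subgroup.zpowers (R.w x5) : Set G) = Subgroup.zpowers (R.w x5) ∧
      A ⊓ Subgroup.closure (D ∩ (Subgroup.centralizer (Subgroup.zpowers (R.w x5) : Set G) : Set G)) = ⊥ ∧
      (∀ a ∈ A, ∀ y ∈ Subgroup.closure (D ∩ (Subgroup.centralizer (Subgroup.zpowers (R.w x5) : Set G) : Set G)), a * y = y * a) ∧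
      A ⊔ Subgroup.closure (D ∩ (Subgroup.centralizer (Subgroup.zpowers (R.w x5) : Set G) : Set G)) =
        Subgroup.normalizer (Subgroup.zpowers (R.w x5) : Set G) ∧
      Nonempty (Subgroup.closure (D ∩ (Subgroup.centralizer (Subgroup.zpowers (R.w x5) : Set G) : Set G)) ≃* Perm (Fin 5)) :=
  R.rowA (k := 2) (fr22_5 R) (ws := ws22_5)
    (cert := [(3, []), (3, [2]), (2, []), (0, []), (3, [0, 1, 2]), (1, [0]), (2, [1]), (3, [1, 2]), (1, []), (2, [0, 1])])
    fx22_5 rfl (by decide +kernel) (by decide +kernel) (by decide +kernel) (by decide +kernel)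
    (by decide +kernel) (by decide +kernel) (R.norm_full (by norm_num) (fr22_5 R).card_X g22_5 (by decide))

/-- Words for a Coxeter system. -/
def ws22_7 : List (List ℕ) := [[7, 3, 4, 5, 6, 8, 7, 3, 4, 5], [0, 1, 2, 7, 3, 2, 1, 4, 8, 7, 3, 2, 13, 8, 7, 3, 4, 5]]

theorem row22_7 {G : Type*} [Group G] {D : Set G} (R : Rp cf22 N22.π L22.F G D) :
    ∃ A : Subgroup G, Nat.card A = 42 ∧ Subgroup.zpowers (R.w x7) ≤ A ∧
      A ⊓ Subgroup.centralizer (Subgroup.zpowers (R.w x7) : Set G) = Subgroup.zpowers (R.w x7) ∧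
      A ⊓ Subgroup.closure (D ∩ (Subgroup.centralizer (Subgroup.zpowers (R.w x7) : Set G) : Set G)) = ⊥ ∧
      (∀ a ∈ A, ∀ y ∈ Subgroup.closure (D ∩ (Subgroup.centralizer (Subgroup.zpowers (R.w x7) : Set G) : Set G)), a * y = y * a) ∧
      A ⊔ Subgroup.closure (D ∩ (Subgroup.centralizer (Subgroup.zpowers (R.w x7) : Set G) : Set G)) =
        Subgroup.normalizer (Subgroup.zpowers (R.w x7) : Set G) ∧
      Nonempty (Subgroup.closure (D ∩ (Subgroup.centralizer (Subgroup.zpowers (R.w x7) : Set G) : Set G)) ≃* Perm (Fin 3)) :=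
  R.rowA (k := 0) (fr22_7 R) (ws := ws22_7)
    (cert := [(0, []), (1, []), (1, [0])])
    fx22_7 rfl (by decide +kernel) (by decide +kernel) (by decide +kernel) (by decide +kernel)
    (by decide +kernel) (by decide +kernel) (R.norm_full (by norm_num) (fr22_7 R).card_X g22_7 (by decide))

theorem ea22 {G : Type*} [Group G] {D : Set G} (R : Rp cf22 N22.π L22.F G D) : EA (R.w x5) (R.w y5) 5 :=
  R.ea (b := 0) (q := 180) (by decide +kernel) (by norm_num) (by norm_num) (by norm_num)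

theorem conj22_5 {G : Type*} [Group G] {D : Set G} (R : Rp cf22 N22.π L22.F G D) (X Y : Subgroup G)
    (hX : Nat.card X = 5) (hY : Nat.card Y = 5) : ∃ g : G, X.map (MulAut.conj g).toMonoidHom = Y :=
  R.conj_ea (ea22 R) L22.card_grp (by norm_num) (g := g5) (k := k5) (by decide +kernel) X Y hX hY

theorem nr22_0 : nrmB cf22 x5 y5 n5_0 [1, 0, 0, 3] = true := by decide +kernel

theorem nr22_1 : nrmB cf22 x5 y5 n5_1 [3, 4, 4, 3] = true := by decide +kernel

theorem nr22_2 : nrmB cf22 x5 y5 n5_2 [4, 0, 0, 1] = true := by decide +kernel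

theorem ge22_E : 2400 ≤ Nat.card (closW N22.π [x5, y5, n5_0, n5_1, n5_2]) :=
  N22.act.chP_le (d := 8) (l := [(2, 4, 1200, [x5, y5, n5_0, n5_1]), (0, 1, 2, [n5_2])]) (by decide +kernel)

theorem fr23_5 {G : Type*} [Group G] {D : Set G} (R : Rp cf23 N23.π L23.F G D) :
    Frob (R.w x5) (R.w f5) 5 4 2 :=
  R.frob (b := 0) (by decide +kernel) (by norm_num) (by norm_num) (by norm_num) (by decide)

theorem fr23_7 {G : Type*} [Group G] {D : Set G} (R : Rp cf23 N23.π L23.F G D) :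
    Frob (R.w x7) (R.w h7) 7 6 3 :=
  R.frob (b := 0) (by decide +kernel) (by norm_num) (by norm_num) (by norm_num) (by decide)

theorem fr23_11 {G : Type*} [Group G] {D : Set G} (R : Rp cf23 N23.π L23.F G D) :
    Frob (R.w x11) (R.w f11) 11 5 3 :=
  R.frob (b := 0) (by decide +kernel) (by norm_num) (by norm_num) (by norm_num) (by decide)

theorem fr23_13 {G : Type*} [Group G] {D : Set G} (R : Rp cf23 N23.π L23.F G D) :
    Frob (R.w x13) (R.w f13) 13 6 4 :=
  R.frob (b := 0) (by decide +kernel) (by norm_num) (by norm_num) (by norm_num) (by decide)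

theorem fr23_17 {G : Type*} [Group G] {D : Set G} (R : Rp cf23 N23.π L23.F G D) :
    Frob (R.w x17) (R.w f17) 17 16 3 :=
  R.frob (b := 0) (by decide +kernel) (by norm_num) (by norm_num) (by norm_num) (by decide)

theorem fr23_23 {G : Type*} [Group G] {D : Set G} (R : Rp cf23 N23.π L23.F G D) :
    Frob (R.w x23) (R.w f23) 23 11 2 :=
  R.frob (b := 0) (by decide +kernel) (by norm_num) (by norm_num) (by norm_num) (by decide)

/-- Fixed points. -/
def l23_5 : List ℕ := [180, 198, 454, 693, 787, 825, 899, 2195, 2233, 2307, 3510, 3666, 3696, 3781, 9651, 12907, 17746, 17776, 17861, 23731, 26987]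

theorem fx23_5 : ∀ q : Fin 31671, wp N23.π x5 q = q ↔ (q : ℕ) ∈ l23_5 :=
  md23.fix_iff (by decide +kernel)

/-- Fixed points. -/
def l23_7 : List ℕ := [52, 1912, 3446, 3510, 3781, 4463, 4745, 17861, 18543, 18825]

theorem fx23_7 : ∀ q : Fin 31671, wp N23.π x7 q = q ↔ (q : ℕ) ∈ l23_7 :=
  md23.fix_iff (by decide +kernel)

/-- Fixed points. -/
def l23_11 : List ℕ := [693, 3510]

theorem fx23_11 : ∀ q : Fin 31671, wp N23.π x11 q = q ↔ (q : ℕ) ∈ l23_11 :=
  md23.fix_iff (by decide +kernel)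

/-- Fixed points. -/
def l23_13 : List ℕ := [3510, 3781, 17861]

theorem fx23_13 : ∀ q : Fin 31671, wp N23.π x13 q = q ↔ (q : ℕ) ∈ l23_13 :=
  md23.fix_iff (by decide +kernel)

theorem g23_5 : Nat.card (gst N23.π L23.F ⟨[x5], [], [], []⟩) ≤ 25200 :=
  card_gst_le.trans c5_0

theorem g23_7 : Nat.card (gst N23.π L23.F ⟨[x7], [], [], []⟩) ≤ 840 :=
  card_gst_le.trans c7_0

theorem g23_13 : Nat.card (gst N23.π L23.F ⟨[x13], [], [], []⟩) ≤ 78 :=
  card_gst_le.trans c13_0

theorem g23_17 : Nat.card (gst N23.π L23.F ⟨[x17], [], [], []⟩) ≤ 17 :=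
  card_gst_le.trans c17_0

theorem g23_23 : Nat.card (gst N23.π L23.F ⟨[x23], [], [], []⟩) ≤ 23 :=
  card_gst_le.trans c23_0

theorem g23_11 : Nat.card (gst N23.π L23.F ⟨[x11], [], [], []⟩) ≤ 88 :=
  gst_fix (b := 44) fx23_11 List.mem_cons_self (p := 3510) (by norm_num) (by decide) (card_gst_le.trans c11_0)

theorem g23_E : Nat.card (gst N23.π L23.F ⟨[x5, y5], [], [], []⟩) ≤ 50 :=
  card_gst_le.trans cE_0

/-- Words for a Coxeter system. -/
def ws23_5 : List (List ℕ) := [[], [9], [9, 6, 12, 9], [6, 5, 9, 6, 12, 9], [1, 2, 3, 13, 8, 9, 6, 13, 9], [1, 0, 2, 1, 3, 2, 13, 3, 9, 12, 13, 9]]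

theorem row23_5 {G : Type*} [Group G] {D : Set G} (R : Rp cf23 N23.π L23.F G D) :
    ∃ A : Subgroup G, Nat.card A = 20 ∧ Subgroup.zpowers (R.w x5) ≤ A ∧
      A ⊓ Subgroup.centralizer (Subgroup.zpowers (R.w x5) : Set G) = Subgroup.zpowers (R.w x5) ∧
      A ⊓ Subgroup.closure (D ∩ (Subgroup.centralizer (Subgroup.zpowers (R.w x5) : Set G) : Set G)) = ⊥ ∧
      (∀ a ∈ A, ∀ y ∈ Subgroup.closure (D ∩ (Subgroup.centralizer (Subgroup.zpowers (R.w x5) : Set G) : Set G)), a * y = y * a) ∧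
      A ⊔ Subgroup.closure (D ∩ (Subgroup.centralizer (Subgroup.zpowers (R.w x5) : Set G) : Set G)) =
        Subgroup.normalizer (Subgroup.zpowers (R.w x5) : Set G) ∧
      Nonempty (Subgroup.closure (D ∩ (Subgroup.centralizer (Subgroup.zpowers (R.w x5) : Set G) : Set G)) ≃* Perm (Fin 7)) :=
  R.rowA (k := 4) (fr23_5 R) (ws := ws23_5)
    (cert := [(5, []), (5, [4]), (4, []), (2, []), (5, [3, 4]), (3, []), (4, [2, 3]), (5, [2, 3, 4]), (3, [2]), (4, [3]), (0, []), (3, [0, 1, 2]), (2, [0, 1]), (1, [0]), (4, [0, 1, 2, 3]), (5, [0, 1, 2, 3, 4]), (3, [1, 2]), (2, [1]), (1, []), (4, [1, 2, 3]), (5, [1, 2, 3, 4])])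
    fx23_5 rfl (by decide +kernel) (by decide +kernel) (by decide +kernel) (by decide +kernel)
    (by decide +kernel) (by decide +kernel) (R.norm_full (by norm_num) (fr23_5 R).card_X g23_5 (by decide))

/-- Words for a Coxeter system. -/
def ws23_7 : List (List ℕ) := [[], [9], [13, 3, 8, 9, 12, 13, 3, 2, 1, 4, 3, 2, 7, 13, 3, 8, 13, 9], [13, 8, 9, 12, 13, 9]]

theorem row23_7 {G : Type*} [Group G] {D : Set G} (R : Rp cf23 N23.π L23.F G D) :
    ∃ A : Subgroup G, Nat.card A = 42 ∧ Subgroup.zpowers (R.w x7) ≤ A ∧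
      A ⊓ Subgroup.centralizer (Subgroup.zpowers (R.w x7) : Set G) = Subgroup.zpowers (R.w x7) ∧
      A ⊓ Subgroup.closure (D ∩ (Subgroup.centralizer (Subgroup.zpowers (R.w x7) : Set G) : Set G)) = ⊥ ∧
      (∀ a ∈ A, ∀ y ∈ Subgroup.closure (D ∩ (Subgroup.centralizer (Subgroup.zpowers (R.w x7) : Set G) : Set G)), a * y = y * a) ∧
      A ⊔ Subgroup.closure (D ∩ (Subgroup.centralizer (Subgroup.zpowers (R.w x7) : Set G) : Set G)) =
        Subgroup.normalizer (Subgroup.zpowers (R.w x7) : Set G) ∧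
      Nonempty (Subgroup.closure (D ∩ (Subgroup.centralizer (Subgroup.zpowers (R.w x7) : Set G) : Set G)) ≃* Perm (Fin 5)) :=
  R.rowA (k := 2) (fr23_7 R) (ws := ws23_7)
    (cert := [(3, []), (2, []), (3, [2]), (0, []), (1, [0]), (2, [0, 1]), (3, [0, 1, 2]), (1, []), (2, [1]), (3, [1, 2])])
    fx23_7 rfl (by decide +kernel) (by decide +kernel) (by decide +kernel) (by decide +kernel)
    (by decide +kernel) (by decide +kernel) (R.norm_full (by norm_num) (fr23_7 R).card_X g23_7 (by decide))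

/-- Words for a Coxeter system. -/
def ws23_13 : List (List ℕ) := [[], [9]]

theorem row23_13 {G : Type*} [Group G] {D : Set G} (R : Rp cf23 N23.π L23.F G D) :
    ∃ A : Subgroup G, Nat.card A = 78 ∧ Subgroup.zpowers (R.w x13) ≤ A ∧
      A ⊓ Subgroup.centralizer (Subgroup.zpowers (R.w x13) : Set G) = Subgroup.zpowers (R.w x13) ∧
      A ⊓ Subgroup.closure (D ∩ (Subgroup.centralizer (Subgroup.zpowers (R.w x13) : Set G) : Set G)) = ⊥ ∧
      (∀ a ∈ A, ∀ y ∈ Subgroup.closure (D ∩ (Subgroup.centralizer (Subgroup.zpowers (R.w x13) : Set G) : Set G)), a * y = y * a) ∧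
      A ⊔ Subgroup.closure (D ∩ (Subgroup.centralizer (Subgroup.zpowers (R.w x13) : Set G) : Set G)) =
        Subgroup.normalizer (Subgroup.zpowers (R.w x13) : Set G) ∧
      Nonempty (Subgroup.closure (D ∩ (Subgroup.centralizer (Subgroup.zpowers (R.w x13) : Set G) : Set G)) ≃* Perm (Fin 3)) :=
  R.rowA (k := 0) (fr23_13 R) (ws := ws23_13)
    (cert := [(0, []), (1, [0]), (1, [])])
    fx23_13 rfl (by decide +kernel) (by decide +kernel) (by decide +kernel) (by decide +kernel)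
    (by decide +kernel) (by decide +kernel) (R.norm_half (by norm_num) (fr23_13 R).card_X g23_13 L23.card_grp (by norm_num) (by decide) (by decide))

theorem ea23 {G : Type*} [Group G] {D : Set G} (R : Rp cf23 N23.π L23.F G D) : EA (R.w x5) (R.w y5) 5 :=
  R.ea (b := 0) (q := 180) (by decide +kernel) (by norm_num) (by norm_num) (by norm_num)

theorem conj23_5 {G : Type*} [Group G] {D : Set G} (R : Rp cf23 N23.π L23.F G D) (X Y : Subgroup G)
    (hX : Nat.card X = 5) (hY : Nat.card Y = 5) : ∃ g : G, X.map (MulAut.conj g).toMonoidHom = Y :=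
  R.conj_ea (ea23 R) L23.card_grp (by norm_num) (g := g5) (k := k5) (by decide +kernel) X Y hX hY

theorem nr23_0 : nrmB cf23 x5 y5 n5_0 [1, 0, 0, 3] = true := by decide +kernel

theorem nr23_1 : nrmB cf23 x5 y5 n5_1 [3, 4, 4, 3] = true := by decide +kernel

theorem nr23_2 : nrmB cf23 x5 y5 n5_2 [4, 0, 0, 1] = true := by decide +kernel

theorem ge23_E : 4800 ≤ Nat.card (closW N23.π [x5, y5, n5_0, n5_1, n5_2, [12]]) :=
  N23.act.chP_le (d := 11) (l := [(3524, 4, 4800, [x5, y5, n5_0, n5_1, n5_2, [12]])]) (by decide +kernel)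

end Cfsg.Agent.H45
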