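import Mathlib


/-!
# Words for elements of the Fischer groups
-/

set_option autoImplicit false
set_option maxRecDepth 1000000
set_option Elab.async false

namespace Cfsg.Agent.H45



/-- An element of order 5. -/
def x5 : List ℕ := [2, 3, 7, 8]

/-- An element normalising it. -/
def f5 : List ℕ := [7, 2, 3]

/-- An element of order 7. -/
def x7 : List ℕ := [0, 1, 2, 3, 4, 5]

/-- An element normalising it. -/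
def f7 : List ℕ := [5, 2, 3, 4, 2, 0, 1]

/-- An element of order 11. -/
def x11 : List ℕ := [11, 3, 4, 2, 12, 3, 7, 8, 1, 13]

/-- An element normalising it. -/
def f11 : List ℕ := [1, 2, 7, 3, 4, 13, 8, 7, 3, 2, 1, 0, 4, 7, 3, 2, 13, 3, 4, 8, 13, 3, 2, 8, 3, 7, 13, 8, 3, 4, 13, 3, 7, 8, 7, 3, 4, 13, 12, 11]

/-- An element of order 13. -/
def x13 : List ℕ := [2, 0, 1, 5, 7, 3, 4, 8]

/-- An element normalising it. -/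
def f13 : List ℕ := [0, 1, 2, 3, 7, 3, 2, 1, 4, 3, 2, 13, 8, 7, 3, 4, 5, 0, 1, 0, 4, 3, 7, 3, 4, 8, 13, 3, 2, 3, 7, 8, 13, 3, 7, 4, 3, 13, 8, 13, 3, 7, 12, 11]

/-- An element of order 17. -/
def x17 : List ℕ := [0, 13, 3, 1, 5, 7, 9, 6, 11, 2]

/-- An element normalising it. -/
def f17 : List ℕ := [0, 1, 13, 8, 7, 3, 2, 1, 13, 3, 2, 7, 3, 8, 13, 9, 3, 6, 8, 13, 8, 7, 3, 4, 5, 0, 1, 2, 4, 7, 3, 13, 8, 7, 3, 2, 1, 0, 2, 4, 3, 13, 7, 3, 4, 8, 7, 3, 2, 4, 3, 7, 13, 8, 4, 13, 3, 7, 3, 4, 13, 3, 4, 12]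

/-- An element of order 23. -/
def x23 : List ℕ := [13, 8, 0, 7, 9, 1, 4, 2, 12, 3]

/-- An element normalising it. -/
def f23 : List ℕ := [1, 0, 3, 2, 1, 4, 6, 8, 13, 3, 2, 7, 8, 7, 3, 13, 9, 0, 2, 1, 5, 4, 3, 2, 7, 8, 13, 3, 4, 5, 2, 4, 13, 3, 7, 8, 13, 3, 2, 1, 0, 2, 4, 8, 13, 3, 4, 7, 8, 13, 3, 2, 7, 8, 3, 7, 3, 13, 8, 3, 7, 4, 3, 13, 8, 13, 12, 11]

/-- An element of order 29. -/
def x29 : List ℕ := [5, 9, 8, 3, 12, 11, 10, 1, 13, 0, 4, 10]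

/-- An element normalising it. -/
def f29 : List ℕ := [2, 3, 6, 8, 13, 3, 2, 8, 9, 6, 13, 3, 7, 8, 9, 13, 10, 0, 4, 3, 2, 1, 6, 8, 9, 13, 3, 2, 7, 3, 8, 13, 9, 3, 2, 1, 4, 3, 8, 7, 13, 3, 2, 8, 7, 3, 4, 5, 4, 13, 3, 7, 8, 13, 3, 2, 1, 13, 3, 13, 4, 8, 7, 3, 2, 13, 3, 7, 4, 3, 13, 8, 4, 13, 3, 7, 13, 12, 11]

/-- A second element of order 5. -/
def y5 : List ℕ := [0, 1, 2, 3, 13, 3, 8, 7, 13, 3, 4, 5, 3, 7, 8, 13, 3, 2, 1, 8, 13, 6]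

/-- An element normalising the Sylow 5-subgroup. -/
def n5_0 : List ℕ := [5, 0, 4, 3, 2, 7, 3, 4, 8, 7, 3, 2, 1, 0, 2, 3, 4, 7, 3, 2, 8, 7, 3, 4, 6]

/-- An element normalising the Sylow 5-subgroup. -/
def n5_1 : List ℕ := [1, 2, 6, 5, 4, 3, 2, 13, 8, 7, 3, 4, 5, 0, 2, 4, 3, 13, 3, 4, 8, 7, 3, 2, 1, 4, 7, 3, 2, 8, 7, 4, 3, 13, 8, 3, 7, 13, 3, 4, 11]

/-- An element normalising the Sylow 5-subgroup. -/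
def n5_2 : List ℕ := [7, 3, 2, 3, 7, 3]

/-- Elements fusing the subgroups of order 5. -/
def g5 : List (List ℕ) := [[2, 4, 5, 6, 8, 7, 3, 4, 5, 1, 2, 3, 4, 13, 3, 2, 1, 7, 3, 13, 8, 7, 3, 4, 13, 3, 7, 3, 13, 8, 13, 3, 13, 6], [0, 1, 2, 6, 5, 4, 3, 2, 8, 13, 8, 7, 3, 4, 5, 0, 4, 13, 8, 7, 3, 2, 1, 0, 2, 7, 8, 7, 3, 13, 4, 8, 7, 3, 2, 8, 3, 4, 13, 3, 13, 12], [0, 1, 2, 1, 5, 4, 7, 3, 2, 13, 8, 7, 3, 4, 5, 4, 8, 7, 3, 2, 1, 3, 8, 13, 7, 3, 2, 13, 8, 3, 4, 13, 3, 7, 8, 3, 4, 13, 3, 7, 3, 4, 6], [1, 2, 6, 5, 4, 3, 2, 13, 8, 7, 3, 4, 5, 0, 2, 4, 3, 13, 3, 4, 8, 7, 3, 2, 1, 4, 7, 3, 2, 8, 7, 4, 3, 13, 8, 3, 7, 13, 3, 4, 11], [2, 1, 4, 6, 13, 3, 2, 7, 8, 13, 3, 4, 5, 0, 7, 3, 4, 13, 8, 7, 3, 2, 1, 0, 2, 4, 3, 4, 7, 8, 13, 3, 2, 4, 13, 3, 7, 8, 13, 3, 7, 4, 6, 12]]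

/-- The exponents. -/
def k5 : List ℕ := [1, 4, 2, 3, 2]

/-- An element interchanging two fixed points. -/
def n11 : List ℕ := [9, 6, 12, 9, 2, 1, 0, 7, 8, 13, 8, 7, 3, 2, 1, 0, 3, 13, 4, 3, 2, 8, 4, 13, 3, 7, 8, 3, 4, 13, 3, 7, 4, 3, 13, 8, 7, 12]

/-- An element interchanging two fixed points. -/
def m11 : List ℕ := [9, 12, 13, 9, 10, 11, 13, 10, 9, 12, 13, 9, 5, 4, 3, 7, 13, 3, 4, 5, 1, 2, 4, 13, 3, 7, 8, 13, 3, 2, 1, 0, 7, 3, 2, 13, 3, 7, 13, 8, 4, 3, 7, 3, 4, 13, 3, 13]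


end Cfsg.Agent.H45
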