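import Cfsg.Agent.H78.G40B
import Cfsg.Agent.H27.SympSimple
import Cfsg.Agent.S0245
import Cfsg.Agent.S0246

/-! L40G piece MO2A: `PSp₆(3)` is simple, non-abelian, with its order. -/

set_option autoImplicit false

namespace Cfsg.Agent.H45.G40Mo2a

open Cfsg.Agent.H78.G40

theorem card_sp : Nat.card Sp6 = 9170703360 := by
  have h := Cfsg.Agent.S0245.result (F := ZMod 3) (q := 3) (by simp) 3
  rw [h]; decide

theorem card_x : Nat.card X2 = 4585351680 := by
  have hc := Cfsg.Agent.S0246.result (F := ZMod 3) (q := 3) (by simp) 3 (by norm_num)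
  have h := Subgroup.card_eq_card_quotient_mul_card_subgroup (Subgroup.center Sp6)
  rw [card_sp, hc] at h
  have h2 : Nat.gcd 2 (3 - 1) = 2 := by decide
  rw [h2] at h
  change 9170703360 = Nat.card X2 * 2 at h
  omega

theorem simple : IsSimpleGroup X2 :=
  Cfsg.Agent.H27.isSimpleGroup_psp (F := ZMod 3) 3 (by norm_num) (Or.inl le_rfl)

theorem mo2a : Mo2aS := by
  refine ⟨simple, ?_, card_x, card_sp⟩
  intro h
  haveI := simple
  letI : CommGroup X2 := { (inferInstance : Group X2) with mul_comm := h.is_comm.comm }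
  have hp : (Nat.card X2).Prime := IsSimpleGroup.prime_card
  rw [card_x] at hp
  exact absurd (hp.eq_one_or_self_of_dvd 2 (by norm_num)) (by norm_num)

end Cfsg.Agent.H45.G40Mo2a
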