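import Cfsg.Agent.H45.HnA8a
import Cfsg.Agent.H83.Cores

/-!
Project HN3, piece A8: the centralizer of the four-group.
-/

set_option autoImplicit false
set_option maxRecDepth 100000

namespace Cfsg.Agent.H45.HnA

open Cfsg Subgroup Equiv Equiv.Perm Cfsg.Agent.H99.HN
open Cfsg.Agent.H78 (altEmb)
open Cfsg.Agent.H63.L3A (A5 A8 dt cjs Dat)
open Cfsg.Agent.H67.T3 (slF slF_X slF_sq)

universe u

/-- commuting is decidable -/
local instance decC {n : ℕ} (a b : alternatingGroup (Fin n)) : Decidable (Commute a b) :=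
  inferInstanceAs (Decidable (a * b = b * a))

variable {G : Type u} [Group G] (U : HB G)

theorem k1 {g : G} (h : Commute g (U.ψ c1)) : g ∈ U.ψ.range := by
  obtain ⟨w, e⟩ : ∃ w : A12, c4 = w⁻¹ * c1 * w := ⟨dd 0 8 2 9 * dd 4 10 1 3, by decide +kernel⟩
  have := U.cA ((U.ψ w)⁻¹ * g * U.ψ w) (by
    rw [e, map_mul, map_mul, map_inv]
    calc _ = (U.ψ w)⁻¹ * (g * U.ψ c1) * U.ψ w := by group
      _ = _ := by rw [h.eq]; group)
  have h2 := mul_mem (mul_mem (⟨w, rfl⟩ : U.ψ w ∈ U.ψ.range) this)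
    (inv_mem (⟨w, rfl⟩ : U.ψ w ∈ U.ψ.range))
  simpa [mul_assoc] using h2

/-- the conjugate embedding -/
def ψ' : A12 →* G := (MulAut.conj U.d).toMonoidHom.comp U.ψ

theorem ψ'_def (γ : A12) : ψ' U γ = U.d * U.ψ γ * U.d⁻¹ := rfl

theorem ψ'_inj : Function.Injective (ψ' U) := (MulAut.conj U.d).injective.comp U.inj

theorem d_z : ψ' U (c1 * c2 * c4) = U.ψ (c1 * c2 * c4) := mul_inv_eq_iff_eq_mul.2 (U.ιz slF)

theorem d_z' : ψ' U (c1 * c2 * c4⁻¹) = U.ψ (c1 * c2 * c4⁻¹)⁻¹ := by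
  rw [ψ'_def, map_inv, ← U.ιX, HB.d, ← map_inv, ← map_mul, ← map_mul, slF_X, map_inv]

theorem d_ap : ψ' U c4 = U.ψ (c1 * c2) := by
  rw [show c4 = (c1 * c2 * c4)⁻¹ * (c1 * c2 * c4⁻¹) by decide +kernel, map_mul, map_inv, d_z, d_z',
    ← map_inv, ← map_mul]
  exact congrArg _ (by decide +kernel)

theorem d_am : ψ' U (c1 * c2) = U.ψ c4 := by
  rw [show c1 * c2 = (c1 * c2 * c4)⁻¹ * (c1 * c2 * c4⁻¹)⁻¹ by decide +kernel, map_mul, map_inv,
    map_inv, d_z, d_z', ← map_inv, ← map_inv, ← map_mul]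
  exact congrArg _ (by decide +kernel)

theorem d_sq : U.d * U.d = U.ψ u0 := by rw [HB.d, ← map_mul, slF_sq, U.ιu]

theorem d_u : ψ' U u0 = U.ψ u0 := by rw [ψ'_def, ← d_sq]; group

theorem cA' {g : G} (h : Commute g (U.ψ (c1 * c2))) : g ∈ (ψ' U).range := by
  obtain ⟨γ, hγ⟩ := U.cA (U.d⁻¹ * g * U.d) (by
    have e : U.ψ c4 = U.d⁻¹ * U.ψ (c1 * c2) * U.d := by rw [← d_ap, ψ'_def]; group
    rw [e]
    calc _ = U.d⁻¹ * (g * U.ψ (c1 * c2)) * U.d := by group
      _ = _ := by rw [h.eq]; group)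
  exact ⟨γ, by rw [ψ'_def, hγ]; group⟩

theorem d_c3 : ψ' U c3 = U.ψ (c1 * c2⁻¹) ∨ ψ' U c3 = U.ψ (c1 * c2⁻¹)⁻¹ := by
  have h1 : Commute (ψ' U c3) (U.ψ c4) := by
    rw [← d_am]; exact Commute.map (by decide +kernel) _
  have h2 : Commute (ψ' U c3) (U.ψ (c1 * c2)) := by
    rw [← d_ap]; exact Commute.map (by decide +kernel) _
  have iv : u0 * c3 * u0⁻¹ = c3⁻¹ := by decide +kernel
  have ne : U.ψ c3⁻¹ ≠ U.ψ c3 := U.inj.ne (by decide +kernel)
  have h3 : U.d * ψ' U c3 * U.d⁻¹ = U.ψ c3⁻¹ := by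
    rw [← iv, map_mul, map_mul, map_inv, ← d_sq, ψ'_def]; group
  obtain ⟨γ, hγ⟩ := U.cA _ h1.eq
  rw [← hγ] at h1 h2
  rcases cen5 (h2.of_map U.inj).eq (h1.of_map U.inj).eq
    (U.inj (by rw [map_pow, hγ, ← map_pow, show c3 ^ 3 = 1 by decide +kernel, map_one, map_one]))
    (U.inj (by
      rw [map_mul, map_mul, map_inv, map_inv, hγ, ← d_u, ← map_inv, ← map_mul, ← map_mul, iv,
        map_inv])) with e | e | e | e | e | e
  · exact .inl (by rw [← hγ, e])
  · exact .inr (by rw [← hγ, e])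
  · rw [← hγ, e, ← ψ'_def, ← hγ, e] at h3
    exact (ne h3.symm).elim
  · rw [← hγ, e, ← ψ'_def, map_inv, ← hγ, e, ← map_inv, inv_inv] at h3
    exact (ne h3.symm).elim
  · rw [e, map_one, ← map_one (ψ' U)] at hγ
    exact absurd (ψ'_inj U hγ) (by decide +kernel)
  · refine (U.nc ?_).elim
    have a1 : IsConj (U.ψ c4) (U.ψ c3) := U.ψ.map_isConj
      (isConj_iff.2 ⟨dd 3 5 8 6 * dd 9 7 10 11, by decide +kernel⟩)
    have a2 : IsConj (U.ψ c3) (U.ψ γ) := isConj_iff.2 ⟨U.d, hγ.symm⟩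
    exact (a1.trans a2).trans (U.ψ.map_isConj e).symm

theorem cam {c : G} (ht : Commute c U.t) (hs : Commute c U.s) (h : Commute c (U.ψ (c1 * c2))) :
    c ∈ U.ψ.range := by
  obtain ⟨g, hg⟩ := cA' U h
  obtain ⟨t, et⟩ := cA' U (g := U.ψ t0) (Commute.map (by decide +kernel) _)
  obtain ⟨s, es⟩ := cA' U (g := U.ψ s0) (Commute.map (by decide +kernel) _)
  have i := ψ'_inj U
  have a3 : ∀ v : A12, Commute v (c1 * c2⁻¹) → Commute (U.ψ v) (ψ' U c3) := fun v hv => by
    rcases d_c3 U with e | e <;> rw [e]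
    exacts [hv.map _, hv.inv_right.map _]
  have h1 := norm3 (g := g) (t := t) (s := s)
    (Commute.of_map i (by rw [hg, d_ap]; exact h)).eq
    (Commute.of_map i (by rw [hg, et]; exact ht)).eq
    (Commute.of_map i (by rw [hg, es]; exact hs)).eq
    (Commute.of_map i (by rw [et]; exact a3 _ (by decide +kernel))).eq
    (Commute.of_map i (by rw [et, d_ap]; exact Commute.map (by decide +kernel) _)).eq
    (Commute.of_map i (by rw [es]; exact a3 _ (by decide +kernel))).eq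
    (i (by rw [map_mul, et, ← map_mul, map_one, show t0 * t0 = 1 by decide +kernel, map_one]))
    (i (by rw [map_mul, es, ← map_mul, map_one, show s0 * s0 = 1 by decide +kernel, map_one]))
    (fun e => by
      rw [e, map_one, ← map_one U.ψ] at et
      exact absurd (U.inj et) (by decide +kernel))
    (i (by
      rw [map_mul, map_mul (ψ' U) (t * s), map_mul (ψ' U) t, d_am, et, es]
      simp only [← map_mul]
      exact congrArg _ (by decide +kernel)))
    (i (by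
      rw [map_mul, map_mul (ψ' U) t, d_am, et, es]
      simp only [← map_mul]
      exact congrArg _ (by decide +kernel)))
  have h2 : c * ψ' U c3 * c⁻¹ = ψ' U c3 ∨ c * ψ' U c3 * c⁻¹ = (ψ' U c3)⁻¹ := by
    rw [← hg, ← map_inv, ← map_inv, ← map_mul, ← map_mul]
    exact h1.imp (congrArg _) (congrArg _)
  have h3 : c * U.ψ (c1 * c2⁻¹) * c⁻¹ = U.ψ (c1 * c2⁻¹) ∨
      c * U.ψ (c1 * c2⁻¹) * c⁻¹ = (U.ψ (c1 * c2⁻¹))⁻¹ := by
    rcases d_c3 U with e | e <;> rw [e] at h2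
    · exact h2
    · rw [map_inv, ← conj_inv, inv_inj, inv_inj] at h2
      exact h2
  have fin : ∀ x : G, Commute x (U.ψ (c1 * c2)) → Commute x (U.ψ (c1 * c2⁻¹)) → x ∈ U.ψ.range :=
    fun x a b => k1 U (by
      have := (a.mul_right b).inv_right
      rwa [← map_mul, ← map_inv, show (c1 * c2 * (c1 * c2⁻¹))⁻¹ = c1 by decide +kernel] at this)
  rcases h3 with e | e
  · exact fin c h (mul_inv_eq_iff_eq_mul.1 e)
  · refine (mul_mem_cancel_left (⟨u0, rfl⟩ : U.ψ u0 ∈ U.ψ.range)).1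
      (fin _ (Commute.mul_left (Commute.map (by decide +kernel) _) h) (mul_inv_eq_iff_eq_mul.1 ?_))
    calc _ = U.ψ u0 * (c * U.ψ (c1 * c2⁻¹) * c⁻¹) * (U.ψ u0)⁻¹ := by group
      _ = _ := by
        rw [e]
        simp only [← map_inv, ← map_mul]
        exact congrArg _ (by decide +kernel)

/-- the centralizer of the four-group -/
def HV : Subgroup G := centralizer {U.t} ⊓ centralizer {U.s}

theorem mem_HV {g : G} : g ∈ HV U ↔ Commute g U.t ∧ Commute g U.s := by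
  simp only [HV, mem_inf, mem_centralizer_singleton_iff, commute_iff_eq]

/-- the four-group -/
def VV : Subgroup (HV U) := (V30.map U.ψ).subgroupOf (HV U)

theorem V_comm {v : HV U} (hv : v ∈ VV U) (g : HV U) : Commute (g : G) v := by
  obtain ⟨w, hw, e⟩ := hv
  obtain ⟨h1, h2⟩ := (mem_HV U).1 g.2
  change U.ψ w = (v : G) at e
  rw [← e]
  rcases mem_V hw with rfl | rfl | rfl | rfl
  exacts [by simp, h1, h2, by rw [map_mul]; exact h1.mul_right h2]

instance : (VV U).Normal :=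
  ⟨fun v hv g => by
    rwa [show g * v * g⁻¹ = v from mul_inv_eq_iff_eq_mul.2 (Subtype.ext (V_comm U hv g).eq)]⟩

/-- the embedding of degree eight -/
noncomputable def θ0 : A8 →* HV U :=
  (U.ψ.comp (altEmb e8)).codRestrict _ fun a =>
    (mem_HV U).2 ⟨Commute.map (e_ts a).1 U.ψ, Commute.map (e_ts a).2 U.ψ⟩

/-- ... modulo the four-group -/
noncomputable def θ : A8 →* HV U ⧸ VV U := (QuotientGroup.mk' (VV U)).comp (θ0 U)

theorem θ_inj : Function.Injective (θ U) := by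
  refine (injective_iff_map_eq_one _).2 fun a ha => ?_
  obtain ⟨w, hw, e⟩ := (QuotientGroup.eq_one_iff _).1 ha
  have e1 : w = altEmb e8 a := U.inj e
  have e2 : w.1 8 = 8 := by rw [e1]; exact emb_fix e8 a.1 (by decide)
  have e3 : w = 1 := by
    rcases mem_V hw with rfl | rfl | rfl | rfl <;> revert e2 <;> decide +kernel
  exact H78.altEmb_injective e8 (by rw [← e1, e3, map_one])

theorem mem_θ {g : HV U} (h : (g : G) ∈ U.ψ.range) : (g : HV U ⧸ VV U) ∈ (θ U).range := by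
  obtain ⟨γ, hγ⟩ := h
  obtain ⟨h1, h2⟩ := (mem_HV U).1 g.2
  rw [← hγ] at h1 h2
  obtain ⟨v, hv, a, rfl⟩ := cenV (h1.of_map U.inj).eq (h2.of_map U.inj).eq
  refine ⟨a, QuotientGroup.eq_iff_div_mem.2 ⟨v⁻¹, inv_mem hv, ?_⟩⟩
  change _ = U.ψ (altEmb e8 a) / (g : G)
  rw [← hγ, map_mul, map_inv, div_eq_mul_inv]
  group

theorem lift {g : HV U} {a : A8} (a3 : a ^ 3 = 1) (h : Commute (g : HV U ⧸ VV U) (θ U a)) :
    Commute (g : G) (U.ψ (altEmb e8 a)) := by
  have h1 : (θ0 U a)⁻¹ * (g * θ0 U a * g⁻¹) ∈ VV U :=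
    QuotientGroup.eq.1 (mul_inv_eq_iff_eq_mul.2 h.eq).symm
  set v := (θ0 U a)⁻¹ * (g * θ0 U a * g⁻¹) with hv
  have h2 : g * θ0 U a * g⁻¹ = θ0 U a * v := by rw [hv, mul_inv_cancel_left]
  have h3 : v ^ 3 = 1 := by
    have e : (g * θ0 U a * g⁻¹) ^ 3 = 1 := by rw [conj_pow, ← map_pow, a3]; simp
    have c : Commute (θ0 U a) v := Subtype.ext (V_comm U h1 _).eq
    rwa [h2, c.mul_pow, ← map_pow, a3, map_one, one_mul] at e
  have h4 : v * v = 1 := by
    obtain ⟨w, hw, e⟩ := h1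
    refine Subtype.ext ?_
    change U.ψ w = (v : G) at e
    change (v : G) * v = 1
    rw [← e, ← map_mul, ← map_one U.ψ]
    rcases mem_V hw with rfl | rfl | rfl | rfl <;> exact congrArg _ (by decide +kernel)
  rw [pow_three', h4, one_mul] at h3
  rw [h3, mul_one, mul_inv_eq_iff_eq_mul] at h2
  exact congrArg Subtype.val h2

theorem cen_z {x : HV U ⧸ VV U} (h : Commute x (θ U z8)) : x ∈ (θ U).range := by
  obtain ⟨g, rfl⟩ := QuotientGroup.mk_surjective x
  exact mem_θ U (k1 U (e_z ▸ lift U (by decide +kernel) h))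

theorem cen_y {x : HV U ⧸ VV U} (h : Commute x (θ U (z8 * t8))) : x ∈ (θ U).range := by
  obtain ⟨g, rfl⟩ := QuotientGroup.mk_surjective x
  have := lift U (by decide +kernel) h
  rw [map_mul (altEmb e8), e_z, e_t] at this
  exact mem_θ U (cam U ((mem_HV U).1 g.2).1 ((mem_HV U).1 g.2).2 this)

theorem dat : Dat ((θ U).comp (altEmb e5)) (θ U z8) (θ U c8) (θ U s8) where
  inj := (θ_inj U).comp (H78.altEmb_injective e5)
  oz :=
    have : Fact (Nat.Prime 3) := ⟨Nat.prime_three⟩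
    (orderOf_injective _ (θ_inj U) _).trans
      (orderOf_eq_prime (by decide +kernel) (by decide +kernel))
  zc := fun k => (zc8 k).map _
  cent := fun g hg => by
    obtain ⟨a, rfl⟩ := cen_z U hg
    obtain ⟨i, k, rfl⟩ := cen1 (hg.of_map (θ_inj U)).eq
    exact ⟨i, k, by rw [map_mul, map_zpow]; rfl⟩
  cc := by rw [← map_mul, show c8 * c8 = 1 by decide +kernel, map_one]
  cz := by
    simp only [← map_mul, ← map_inv]
    exact congrArg _ (by decide +kernel)
  ck := fun k => by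
    simp only [MonoidHom.comp_apply, ← map_mul, ← map_inv, ck8]
  ss := by rw [← map_mul, show s8 * s8 = 1 by decide +kernel, map_one]
  sz := by
    simp only [MonoidHom.comp_apply, k_t, ← map_mul, ← map_inv]
    exact congrArg _ (by decide +kernel)
  sr := by
    simp only [MonoidHom.comp_apply, k_r, ← map_mul, ← map_inv]
    exact congrArg _ (by decide +kernel)
  cy := fun g hg => by
    simp only [MonoidHom.comp_apply, k_t] at hg ⊢
    rw [← map_mul] at hg
    obtain ⟨a, rfl⟩ := cen_y U hg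
    obtain ⟨i, j, e⟩ := ceny (hg.of_map (θ_inj U)).eq
    refine ⟨i.1, j.1, e.imp (fun e => ?_) fun e => ?_⟩ <;>
      simp only [e, map_mul, map_pow, zpow_natCast]

theorem card_A8 : Nat.card A8 = 20160 := by
  rw [nat_card_alternatingGroup, Nat.card_eq_fintype_card, Fintype.card_fin]; rfl

theorem n27 [Finite G] : ¬ 27 ∣ Nat.card (HV U ⧸ VV U) := by
  intro h27
  have : Fact (Nat.Prime 3) := ⟨Nat.prime_three⟩
  have hp : ∀ a : A8, a ^ 3 = 1 → IsPGroup 3 (zpowers (θ U a)) := fun a ha =>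
    H83.isPGroup_zpowers (k := 1) (by rw [pow_one, ← map_pow, ha, map_one])
  have zt : Commute (θ U z8) (θ U t8) := Commute.map (by decide +kernel) _
  obtain ⟨P, hP⟩ := ((hp z8 (by decide +kernel)).to_sup_of_normal_right' (hp t8 (by decide +kernel))
    (zpowers_le.2 (centralizer_le_normalizer _ (by
      rintro _ ⟨k, rfl⟩
      exact (zt.zpow_right k).eq.symm)))).exists_le_sylow
  have hz : θ U z8 ∈ P := hP (mem_sup_left (mem_zpowers _))
  have ht : θ U t8 ∈ P := hP (mem_sup_right (mem_zpowers _))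
  obtain ⟨⟨y, y1, y2⟩, y0⟩ := ne_bot_iff_exists_ne_one.1 (H83.inf_centralizer_ne_bot P.isPGroup'
    P.isPGroup' le_normalizer fun e => absurd (θ_inj U ((mem_bot.1 (e ▸ hz :
      θ U z8 ∈ (⊥ : Subgroup _))).trans (map_one _).symm)) (by decide +kernel))
  obtain ⟨a, rfl⟩ := cen_z U (x := y) (y2 _ hz).symm
  obtain ⟨w, hw⟩ := cenD (a := a) (θ_inj U (by rw [map_mul, map_mul]; exact (y2 _ hz).symm))
    (θ_inj U (by rw [map_mul, map_mul]; exact (y2 _ ht).symm))
    fun e => y0 (Subtype.ext ((congrArg (θ U) e).trans (map_one _)))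
  have hle : (P : Subgroup _) ≤ (θ U).range := fun p hp => by
    have h1 : θ U w * p * (θ U w)⁻¹ ∈ (θ U).range :=
      (hw (fun x => Commute (θ U w * p * (θ U w)⁻¹) (θ U x))
        (fun x hx => by rwa [map_inv, Commute.inv_right_iff] at hx) (by
          rw [map_mul, map_mul, map_inv]
          exact Commute.map (show Commute p (θ U a) from y2 p hp) (MulAut.conj (θ U w)))).elim
        (cen_z U) (cen_y U)
    have h2 := mul_mem (mul_mem (inv_mem (⟨w, rfl⟩ : θ U w ∈ (θ U).range)) h1)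
      (⟨w, rfl⟩ : θ U w ∈ (θ U).range)
    simpa [mul_assoc] using h2
  have h1 := card_dvd_of_le hle
  rw [← Nat.card_congr (MonoidHom.ofInjective (θ_inj U)).toEquiv, card_A8] at h1
  have h2 : 3 ^ 3 ∣ Nat.card P := by
    rw [P.card_eq_multiplicity]
    exact pow_dvd_pow _ ((Nat.prime_three.pow_dvd_iff_le_factorization Nat.card_pos.ne').1 h27)
  exact absurd (h2.trans h1) (by decide)

theorem a8Stmt : A8Stmt.{u} := by
  intro G _ _ U g ht hs
  obtain ⟨e⟩ := (dat U).main (n27 U)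
  have hsur : Function.Surjective (θ U) :=
    ((Nat.bijective_iff_injective_and_card _).2 ⟨θ_inj U, (Nat.card_congr e.toEquiv).symm⟩).2
  obtain ⟨a, ha⟩ := hsur (⟨g, (mem_HV U).2 ⟨ht, hs⟩⟩ : HV U)
  obtain ⟨v, -, hv⟩ := QuotientGroup.eq.1 ha
  exact ⟨altEmb e8 a * v, by
    rw [map_mul, hv]
    exact mul_inv_cancel_left _ _⟩

end Cfsg.Agent.H45.HnA
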