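import Cfsg.Agent.H99.HNDefs
import Cfsg.Agent.H63.L3A8Core
import Cfsg.Agent.H78.Embed

/-!
Project HN3, piece A8: computations in the alternating groups of degrees 8 and 12.
-/

set_option autoImplicit false
set_option maxRecDepth 100000

namespace Cfsg.Agent.H45.HnA

open Cfsg Subgroup Equiv Equiv.Perm Cfsg.Agent.H99.HN
open Cfsg.Agent.H78 (altEmb)
open Cfsg.Agent.H63.L3A (A5 A8 dt cjs)

section gen

variable {m n : ℕ} {γ δ : alternatingGroup (Fin n)}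

theorem ev (h : γ * δ = δ * γ) (i : Fin n) : γ.1 (δ.1 i) = δ.1 (γ.1 i) :=
  congrArg (fun x : alternatingGroup (Fin n) => x.1 i) h

theorem mv (h : γ * δ = δ * γ) {i : Fin n} (hi : δ.1 i ≠ i) : δ.1 (γ.1 i) ≠ γ.1 i :=
  fun e => hi (γ.1.injective ((ev h i).trans e))

theorem fx (h : γ * δ = δ * γ) {i : Fin n} (hi : γ.1 i = i) : γ.1 (δ.1 i) = δ.1 i := by
  rw [ev h, hi]

theorem ex_emb (e : Fin m ↪ Fin n) (h : ∀ x, (∀ i, e i ≠ x) → γ.1 x = x) :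
    ∃ k, altEmb e k = γ := by
  have h0 : ∀ x, x ∉ Set.range e → γ.1 x = x := fun x hx => h x fun i a => hx ⟨i, a⟩
  have h1 : ∀ x, γ.1 x ∈ Set.range e ↔ x ∈ Set.range e := fun x => by
    constructor
    · intro hx
      by_contra hc
      exact hc (h0 x hc ▸ hx)
    · intro hx
      by_contra hc
      exact hc ((γ.1.injective (h0 _ hc)).symm ▸ hx)
  have h2 : viaEmbedding ((Equiv.ofInjective e e.injective).symm.permCongr
      (γ.1.subtypePerm h1)) e = γ.1 := Equiv.ext fun x => by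
    by_cases hx : x ∈ Set.range e
    · obtain ⟨b, rfl⟩ := hx
      rw [viaEmbedding_apply]
      simp [Equiv.apply_ofInjective_symm]
    · rw [viaEmbedding_apply_of_notMem _ _ _ hx, h0 x hx]
  refine ⟨⟨_, mem_alternatingGroup.2 ?_⟩, Subtype.ext h2⟩
  exact (H78.sign_viaEmbedding e _).symm.trans
    ((congrArg sign h2).trans (mem_alternatingGroup.1 γ.2))

theorem emb_dt (e : Fin m ↪ Fin n) (a b c d : Fin m) (h : a ≠ b ∧ c ≠ d) :
    (altEmb e (dt a b c d h)).1 = swap (e a) (e b) * swap (e c) (e d) := by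
  rw [← H78.viaEmbedding_swap, ← H78.viaEmbedding_swap]
  exact map_mul (viaEmbeddingHom e) _ _

theorem emb_fix (e : Fin m ↪ Fin n) (k : Perm (Fin m)) {x : Fin n} (h : ∀ i, e i ≠ x) :
    k.viaEmbedding e x = x :=
  viaEmbedding_apply_of_notMem _ _ _ fun ⟨i, a⟩ => h i a

theorem emb_comm (e : Fin m ↪ Fin n) (k : Perm (Fin m)) {x y : Fin n} (hx : ∀ i, e i ≠ x)
    (hy : ∀ i, e i ≠ y) : Commute (swap x y) (k.viaEmbedding e) := by
  have := mul_swap_eq_swap_mul (k.viaEmbedding e) x y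
  rw [emb_fix e k hx, emb_fix e k hy] at this
  exact this.symm

/-- An involution commuting with a `3`-cycle fixes its support. -/
theorem inv_fix (h : γ * δ = δ * γ) (h2 : γ * γ = 1) {a : Fin n}
    (hδ : δ.1 a ≠ a ∧ δ.1 (δ.1 a) ≠ a ∧ δ.1 (δ.1 (δ.1 a)) = a ∧
      ∀ x, δ.1 x ≠ x → x = a ∨ x = δ.1 a ∨ x = δ.1 (δ.1 a)) : γ.1 a = a := by
  have h3 : γ.1 (γ.1 a) = a := congrArg (fun x : alternatingGroup (Fin n) => x.1 a) h2
  rcases hδ.2.2.2 _ (mv h hδ.1) with e | e | e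
  · exact e
  · rw [e, ev h, e] at h3
    exact (hδ.2.1 h3).elim
  · rw [e, ev h, ev h, e, hδ.2.2.1] at h3
    exact (hδ.1 h3).elim

end gen

/-- the first eight points -/
def e8 : Fin 8 ↪ Fin 12 := ⟨![0, 1, 2, 3, 4, 5, 6, 7], by decide⟩
/-- five points -/
def e5 : Fin 5 ↪ Fin 8 := ⟨![1, 3, 5, 6, 7], by decide⟩
/-- three points -/
def e3 (a b c : Fin 12) (h : Function.Injective ![a, b, c] := by decide) : Fin 3 ↪ Fin 12 :=
  ⟨![a, b, c], h⟩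
/-- `(0 2 4)` -/
def z8 : A8 := dt 0 2 2 4
/-- `(1 3 5)` -/
def t8 : A8 := dt 1 3 3 5
/-- `(0 2)(1 3)` -/
def c8 : A8 := dt 0 2 1 3
/-- `(1 3)(6 7)` -/
def r8 : A8 := dt 1 3 6 7
/-- `(0 1)(2 3)(4 5)(6 7)` -/
def s8 : A8 := dt 0 1 2 3 * dt 4 5 6 7

theorem e_z : altEmb e8 z8 = c1 := Subtype.ext (emb_dt _ _ _ _ _ _)
theorem e_t : altEmb e8 t8 = c2 := Subtype.ext (emb_dt _ _ _ _ _ _)
theorem e_s : altEmb e8 s8 = u0 := by
  rw [s8, map_mul, u0]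
  exact congrArg₂ _ (Subtype.ext (emb_dt _ _ _ _ _ _)) (Subtype.ext (emb_dt _ _ _ _ _ _))
theorem k_t : altEmb e5 (dt 0 1 1 2) = t8 := Subtype.ext (emb_dt _ _ _ _ _ _)
theorem k_r : altEmb e5 (dt 0 1 3 4) = r8 := Subtype.ext (emb_dt _ _ _ _ _ _)

theorem e_ts (a : A8) : altEmb e8 a * t0 = t0 * altEmb e8 a ∧ altEmb e8 a * s0 = s0 * altEmb e8 a :=
  ⟨Subtype.ext ((emb_comm e8 a.1 (x := 8) (y := 9) (by decide) (by decide)).mul_left
      (emb_comm e8 a.1 (x := 10) (y := 11) (by decide) (by decide))).eq.symm,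
    Subtype.ext ((emb_comm e8 a.1 (x := 8) (y := 10) (by decide) (by decide)).mul_left
      (emb_comm e8 a.1 (x := 9) (y := 11) (by decide) (by decide))).eq.symm⟩

theorem zc8 (k : A5) : Commute z8 (altEmb e5 k) :=
  Subtype.ext ((emb_comm e5 k.1 (x := 0) (y := 2) (by decide) (by decide)).mul_left
    (emb_comm e5 k.1 (x := 2) (y := 4) (by decide) (by decide))).eq

theorem ck8 (k : A5) : c8 * altEmb e5 k * c8⁻¹ = altEmb e5 (cjs 0 1 k) := by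
  refine Subtype.ext ?_
  have h1 : (altEmb e5 (cjs 0 1 k)).1 = swap 1 3 * (altEmb e5 k).1 * (swap 1 3)⁻¹ := by
    have : swap (1 : Fin 8) 3 = viaEmbeddingHom e5 (swap 0 1) :=
      (H78.viaEmbedding_swap e5 0 1).symm
    rw [this, ← map_inv]
    exact (map_mul (viaEmbeddingHom e5) _ _).trans (congrArg (· * _) (map_mul _ _ _))
  have h2 := (emb_comm e5 (cjs 0 1 k).1 (x := 0) (y := 2) (by decide) (by decide)).eq
  change swap 0 2 * swap 1 3 * (altEmb e5 k).1 * (swap 0 2 * swap 1 3)⁻¹ = _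
  calc _ = swap 0 2 * (swap 1 3 * (altEmb e5 k).1 * (swap 1 3)⁻¹) * (swap 0 2)⁻¹ := by group
    _ = _ := by rw [← h1]; exact mul_inv_eq_iff_eq_mul.2 h2

theorem mem_V {v : A12} (h : v ∈ V30) : v = 1 ∨ v = t0 ∨ v = s0 ∨ v = t0 * s0 := by
  induction h using closure_induction with
  | mem x hx => rcases hx with rfl | rfl <;> simp
  | one => simp
  | mul x y _ _ a b =>
    rcases a with rfl | rfl | rfl | rfl <;> rcases b with rfl | rfl | rfl | rfl <;> decide +kernel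
  | inv x _ a => rcases a with rfl | rfl | rfl | rfl <;> decide +kernel

theorem cenV {γ : A12} (ht : γ * t0 = t0 * γ) (hs : γ * s0 = s0 * γ) :
    ∃ v ∈ V30, ∃ a, γ = v * altEmb e8 a := by
  have m1 : t0 ∈ V30 := subset_closure (by simp)
  have m2 : s0 ∈ V30 := subset_closure (by simp)
  obtain ⟨v, hv, h8⟩ : ∃ v ∈ V30, v.1 (γ.1 8) = 8 := by
    rcases (by decide +kernel : ∀ x, t0.1 x ≠ x → x = 8 ∨ t0.1 x = 8 ∨ s0.1 x = 8 ∨
      (t0 * s0).1 x = 8) _ (mv ht (i := 8) (by decide +kernel)) with e | e | e | e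
    exacts [⟨1, one_mem _, e⟩, ⟨_, m1, e⟩, ⟨_, m2, e⟩, ⟨_, mul_mem m1 m2, e⟩]
  have hc : v * t0 = t0 * v ∧ v * s0 = s0 * v := by
    rcases mem_V hv with rfl | rfl | rfl | rfl <;> decide +kernel
  have h1 : v * γ * t0 = t0 * (v * γ) := ((show Commute v t0 from hc.1).mul_left ht).eq
  have h2 : v * γ * s0 = s0 * (v * γ) := ((show Commute v s0 from hc.2).mul_left hs).eq
  have a8 : (v * γ).1 8 = 8 := h8
  have a9 := fx h1 a8
  have a10 := fx h2 a8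
  have a11 := fx h1 a10
  obtain ⟨a, ha⟩ := ex_emb e8 (γ := v * γ) fun x hx => by
    rcases (by decide +kernel : ∀ x, (∀ i, e8 i ≠ x) → x = 8 ∨ x = t0.1 8 ∨ x = s0.1 8 ∨
      x = t0.1 (s0.1 8)) x hx with rfl | rfl | rfl | rfl <;> assumption
  exact ⟨v⁻¹, inv_mem hv, a, by rw [ha, inv_mul_cancel_left]⟩

theorem cen1 {a : A8} (h : a * z8 = z8 * a) : ∃ (i : ℤ) (k : A5), a = z8 ^ i * altEmb e5 k := by
  obtain ⟨i, hi⟩ := (by decide +kernel : ∀ x, z8.1 x ≠ x → ∃ i : Fin 3, (z8 ^ i.1).1 x = 0) _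
    (mv h (i := 0) (by decide +kernel))
  have h1 : z8 ^ i.1 * a * z8 = z8 * (z8 ^ i.1 * a) := (((Commute.refl z8).pow_left _).mul_left h).eq
  have a0 : (z8 ^ i.1 * a).1 0 = 0 := hi
  have a2 := fx h1 a0
  have a4 := fx h1 a2
  obtain ⟨k, hk⟩ := ex_emb e5 (γ := z8 ^ i.1 * a) fun x hx => by
    rcases (by decide +kernel : ∀ x, (∀ i, e5 i ≠ x) → x = 0 ∨ x = z8.1 0 ∨ x = z8.1 (z8.1 0))
      x hx with rfl | rfl | rfl <;> assumption
  exact ⟨-i.1, k, by rw [hk, zpow_neg, zpow_natCast, inv_mul_cancel_left]⟩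

/-- the elements centralizing `c₁ c₂`, on the first six points -/
def mD (i j : Fin 3) (b : Bool) : A12 := c2 ^ j.1 * (c1 ^ i.1 * cond b u0 1)

theorem cD {γ : A12} (h : γ * (c1 * c2) = c1 * c2 * γ) :
    ∃ i j b, ∀ x, (c1 * c2).1 x ≠ x → (mD i j b * γ).1 x = x := by
  obtain ⟨i, b, hi⟩ := (by decide +kernel : ∀ x, (c1 * c2).1 x ≠ x → ∃ (i : Fin 3) (b : Bool),
    (c1 ^ i.1 * cond b u0 1).1 x = 0) _ (mv h (i := 0) (by decide +kernel))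
  have h1 : Commute (c1 ^ i.1 * cond b u0 1 * γ) (c1 * c2) := Commute.mul_left
    ((by decide +kernel : ∀ (i : Fin 3) (b : Bool), c1 ^ i.1 * cond b u0 1 * (c1 * c2) =
      c1 * c2 * (c1 ^ i.1 * cond b u0 1)) i b) h
  have a0 : (c1 ^ i.1 * cond b u0 1 * γ).1 0 = 0 := hi
  have a2 := fx h1.eq a0
  have a4 := fx h1.eq a2
  have ne : ∀ x, (c1 ^ i.1 * cond b u0 1 * γ).1 x = x → x ≠ 1 →
      (c1 ^ i.1 * cond b u0 1 * γ).1 1 ≠ x := fun x hx x1 e =>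
    x1 ((c1 ^ i.1 * cond b u0 1 * γ).1.injective (hx.trans e.symm))
  obtain ⟨j, hj⟩ := (by decide +kernel : ∀ x, (c1 * c2).1 x ≠ x → x ≠ 0 → x ≠ (c1 * c2).1 0 →
    x ≠ (c1 * c2).1 ((c1 * c2).1 0) → ∃ j : Fin 3, (c2 ^ j.1).1 x = 1) _
      (mv h1.eq (i := 1) (by decide +kernel)) (ne _ a0 (by decide)) (ne _ a2 (by decide +kernel))
      (ne _ a4 (by decide +kernel))
  have h2 : Commute (mD i j b * γ) (c1 * c2) := by
    rw [mD, mul_assoc]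
    exact Commute.mul_left ((by decide +kernel : ∀ j : Fin 3, c2 ^ j.1 * (c1 * c2) =
      c1 * c2 * c2 ^ j.1) j) h1
  have b0 : (mD i j b * γ).1 0 = 0 := by
    change (c2 ^ j.1).1 ((c1 ^ i.1 * cond b u0 1 * γ).1 0) = 0
    rw [a0]
    exact (by decide +kernel : ∀ j : Fin 3, (c2 ^ j.1).1 0 = 0) j
  have b1 : (mD i j b * γ).1 1 = 1 := hj
  have b2 := fx h2.eq b0
  have b3 := fx h2.eq b1
  have b4 := fx h2.eq b2
  have b5 := fx h2.eq b3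
  refine ⟨i, j, b, fun x hx => ?_⟩
  rcases (by decide +kernel : ∀ x, (c1 * c2).1 x ≠ x → x = 0 ∨ x = 1 ∨ x = (c1 * c2).1 0 ∨
    x = (c1 * c2).1 1 ∨ x = (c1 * c2).1 ((c1 * c2).1 0) ∨ x = (c1 * c2).1 ((c1 * c2).1 1)) x hx
    with rfl | rfl | rfl | rfl | rfl | rfl <;> assumption

theorem ceny {a : A8} (h : a * (z8 * t8) = z8 * t8 * a) :
    ∃ i j : Fin 3, a = z8 ^ i.1 * t8 ^ j.1 ∨ a = z8 ^ i.1 * t8 ^ j.1 * s8 := by
  have h1 := congrArg (altEmb e8) h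
  simp only [map_mul, e_z, e_t] at h1
  obtain ⟨i, j, b, h2⟩ := cD h1
  obtain ⟨k, hk⟩ := ex_emb (⟨![6, 7], by decide⟩ : Fin 2 ↪ Fin 12) (γ := mD i j b * altEmb e8 a)
    fun x hx => by
    rcases (by decide +kernel : ∀ x : Fin 12, (∀ i, ![6, 7] i ≠ x) → (c1 * c2).1 x ≠ x ∨
      ((∀ i, e8 i ≠ x) ∧ ∀ i j b, (mD i j b).1 x = x)) x hx with e | ⟨e, e'⟩
    · exact h2 x e
    · change (mD i j b).1 (a.1.viaEmbedding e8 x) = x
      rw [emb_fix e8 _ e, e']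
  rw [(by decide +kernel : ∀ k : alternatingGroup (Fin 2), k = 1) k, map_one, eq_comm,
    mul_eq_one_iff_inv_eq] at hk
  obtain ⟨i', j', e⟩ := (by decide +kernel : ∀ i j b, ∃ i' j' : Fin 3,
    (mD i j b)⁻¹ = c1 ^ i'.1 * c2 ^ j'.1 ∨ (mD i j b)⁻¹ = c1 ^ i'.1 * c2 ^ j'.1 * u0) i j b
  refine ⟨i', j', e.imp (fun e => ?_) fun e => ?_⟩ <;> apply H78.altEmb_injective e8 <;>
    simp only [map_mul, map_pow, e_z, e_t, e_s, ← hk, e]

theorem cenD {a : A8} (h1 : a * z8 = z8 * a) (h2 : a * t8 = t8 * a) (a1 : a ≠ 1) :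
    ∃ w : A8, ∀ x : A8 → Prop, (∀ y, x y⁻¹ → x y) → x (w * a * w⁻¹) → x z8 ∨ x (z8 * t8) := by
  obtain ⟨i, j, e⟩ := ceny ((show Commute a z8 from h1).mul_right h2).eq
  have : ∃ w ∈ [1, s8, r8], w * a * w⁻¹ = z8 ∨ w * a * w⁻¹ = z8⁻¹ ∨ w * a * w⁻¹ = z8 * t8 ∨
      w * a * w⁻¹ = (z8 * t8)⁻¹ := by
    rcases e with rfl | rfl <;> revert h1 a1 <;> clear h2 <;> revert i j <;> decide +kernel
  obtain ⟨w, -, e⟩ := this
  refine ⟨w, fun x hx h => ?_⟩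
  rcases e with e | e | e | e <;> rw [e] at h
  exacts [.inl h, .inl (hx _ h), .inr h, .inr (hx _ h)]

theorem three (a b c : Fin 12) (h : Function.Injective ![a, b, c]) {γ : A12}
    (hγ : ∀ x, (∀ i, ![a, b, c] i ≠ x) → γ.1 x = x) :
    ∃ l : Fin 3, γ = altEmb (e3 a b c h) (dt 0 1 1 2) ^ l.1 := by
  obtain ⟨k, rfl⟩ := ex_emb (e3 a b c h) hγ
  obtain ⟨l, rfl⟩ := (by decide +kernel : ∀ k : alternatingGroup (Fin 3), ∃ l : Fin 3,
    k = dt 0 1 1 2 ^ l.1) k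
  exact ⟨l, map_pow _ _ _⟩

theorem cen5 {γ : A12} (h1 : γ * (c1 * c2) = c1 * c2 * γ) (h4 : γ * c4 = c4 * γ) (h3 : γ ^ 3 = 1)
    (hu : u0 * γ * u0⁻¹ = γ⁻¹) : γ = c1 * c2⁻¹ ∨ γ = (c1 * c2⁻¹)⁻¹ ∨ γ = c3 ∨ γ = c3⁻¹ ∨ γ = 1 ∨
      IsConj (c1 * c2 * c4) γ := by
  obtain ⟨i, j, b, h2⟩ := cD h1
  have h5 : Commute (mD i j b * γ) c4 :=
    Commute.mul_left ((by decide +kernel : ∀ i j b, mD i j b * c4 = c4 * mD i j b) i j b) h4
  obtain ⟨k, hk⟩ := (by decide +kernel : ∀ x, c4.1 x ≠ x → ∃ i : Fin 3, (c4 ^ i.1).1 x = 8) _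
    (mv h5.eq (i := 8) (by decide +kernel))
  have h6 : Commute (c4 ^ k.1 * (mD i j b * γ)) c4 := ((Commute.refl c4).pow_left _).mul_left h5
  have a8 : (c4 ^ k.1 * (mD i j b * γ)).1 8 = 8 := hk
  have a9 := fx h6.eq a8
  have a10 := fx h6.eq a9
  obtain ⟨l, hl⟩ := three 6 7 11 (by decide) (γ := c4 ^ k.1 * (mD i j b * γ)) fun x hx => by
    rcases (by decide +kernel : ∀ x : Fin 12, (∀ i, ![6, 7, 11] i ≠ x) → x = 8 ∨ x = c4.1 8 ∨
      x = c4.1 (c4.1 8) ∨ ((c1 * c2).1 x ≠ x ∧ ∀ k : Fin 3, (c4 ^ k.1).1 x = x)) x hx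
      with rfl | rfl | rfl | ⟨e, e'⟩
    exacts [a8, a9, a10, by
      change (c4 ^ k.1).1 ((mD i j b * γ).1 x) = x
      rw [h2 x e, e']]
  rw [show altEmb (e3 6 7 11) (dt 0 1 1 2) = c3 from Subtype.ext (emb_dt _ _ _ _ _ _),
    ← mul_assoc, ← eq_inv_mul_iff_mul_eq] at hl
  have : γ = c1 * c2⁻¹ ∨ γ = (c1 * c2⁻¹)⁻¹ ∨ γ = c3 ∨ γ = c3⁻¹ ∨ γ = 1 ∨
      ∃ w ∈ [1, u0, dd 6 7 8 9, u0 * dd 6 7 8 9], w * (dd 3 5 8 6 * dd 9 7 10 11) *
        (c1 * c2 * c4) * (w * (dd 3 5 8 6 * dd 9 7 10 11))⁻¹ = γ := by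
    subst hl
    clear h1 h4 h2 h5 hk h6 a8 a9 a10
    revert h3 hu i j b k l
    decide +kernel
  rcases this with e | e | e | e | e | ⟨w, -, e⟩
  exacts [.inl e, .inr (.inl e), .inr (.inr (.inl e)), .inr (.inr (.inr (.inl e))),
    .inr (.inr (.inr (.inr (.inl e)))), .inr (.inr (.inr (.inr (.inr (isConj_iff.2 ⟨_, e⟩)))))]

theorem norm3 {g t s : A12} (g4 : g * c4 = c4 * g) (gt : g * t = t * g) (gs : g * s = s * g)
    (t3 : t * c3 = c3 * t) (t4 : t * c4 = c4 * t) (s3 : s * c3 = c3 * s)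
    (tt : t * t = 1) (ss : s * s = 1) (t1 : t ≠ 1)
    (ct : c1 * c2 * t = t * s * (c1 * c2)) (cs : c1 * c2 * s = t * (c1 * c2)) :
    g * c3 * g⁻¹ = c3 ∨ g * c3 * g⁻¹ = c3⁻¹ := by
  have a6 := inv_fix t3 tt (a := 6) (by decide +kernel)
  have a7 := fx t3 a6
  have a11 := fx t3 a7
  have a8 := inv_fix t4 tt (a := 8) (by decide +kernel)
  have a9 := fx t4 a8
  have a10 := fx t4 a9
  have b6 := inv_fix s3 ss (a := 6) (by decide +kernel)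
  have b7 := fx s3 b6
  have b11 := fx s3 b7
  have st : ∀ x, t.1 x = x ∧ s.1 x = x → t.1 ((c1 * c2).1 x) = (c1 * c2).1 x ∧
      s.1 ((c1 * c2).1 x) = (c1 * c2).1 x := fun x hx => by
    have e1 : (c1 * c2).1 (s.1 x) = t.1 ((c1 * c2).1 x) := congrArg (fun y : A12 => y.1 x) cs
    have e2 : (c1 * c2).1 (t.1 x) = t.1 (s.1 ((c1 * c2).1 x)) :=
      congrArg (fun y : A12 => y.1 x) ct
    rw [hx.2] at e1
    rw [hx.1] at e2
    exact ⟨e1.symm, t.1.injective (e2.symm.trans e1)⟩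
  have one : ∀ (a b c : Fin 12) (h : Function.Injective ![a, b, c]),
      (∀ x, (∀ i, ![a, b, c] i ≠ x) → t.1 x = x) → False := fun a b c h hγ => by
    obtain ⟨k, rfl⟩ := ex_emb (e3 a b c h) hγ
    rw [← map_mul, ← map_one (altEmb (e3 a b c h))] at tt
    rw [(by decide +kernel : ∀ k : alternatingGroup (Fin 3), k * k = 1 → k = 1) k
      (H78.altEmb_injective _ tt), map_one] at t1
    exact t1 rfl
  have no : ∀ x, t.1 x = x ∧ s.1 x = x → (c1 * c2).1 x = x := fun x hx => by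
    by_contra hne
    have x1 := st _ hx
    have x2 := st _ x1
    have all : ∀ y, (y = x ∨ y = (c1 * c2).1 x ∨
        y = (c1 * c2).1 ((c1 * c2).1 x) ∨ y = 6 ∨ y = c3.1 6 ∨ y = c3.1 (c3.1 6) ∨ y = 8 ∨
        y = c4.1 8 ∨ y = c4.1 (c4.1 8)) → t.1 y = y := by
      rintro y (e | e | e | e | e | e | e | e | e) <;> rw [e]
      exacts [hx.1, x1.1, x2.1, a6, a7, a11, a8, a9, a10]
    rcases (by decide +kernel : ∀ x : Fin 12, (c1 * c2).1 x ≠ x →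
      (∀ y : Fin 12, (∀ i, ![0, 2, 4] i ≠ y) → y = x ∨ y = (c1 * c2).1 x ∨
        y = (c1 * c2).1 ((c1 * c2).1 x) ∨ y = 6 ∨ y = c3.1 6 ∨ y = c3.1 (c3.1 6) ∨ y = 8 ∨
        y = c4.1 8 ∨ y = c4.1 (c4.1 8)) ∨
      (∀ y : Fin 12, (∀ i, ![1, 3, 5] i ≠ y) → y = x ∨ y = (c1 * c2).1 x ∨
        y = (c1 * c2).1 ((c1 * c2).1 x) ∨ y = 6 ∨ y = c3.1 6 ∨ y = c3.1 (c3.1 6) ∨ y = 8 ∨
        y = c4.1 8 ∨ y = c4.1 (c4.1 8))) x hne with e | e
    exacts [one 0 2 4 (by decide) fun y hy => all y (e y hy),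
      one 1 3 5 (by decide) fun y hy => all y (e y hy)]
  have key : ∀ x, t.1 x = x → s.1 x = x → c4.1 x = x → (c1 * c2).1 (g.1 x) = g.1 x ∧
      c4.1 (g.1 x) = g.1 x := fun x h1 h2 h3 =>
    ⟨no _ ⟨by rw [← ev gt, h1], by rw [← ev gs, h2]⟩, by rw [← ev g4, h3]⟩
  have h := (by decide +kernel : ∀ x, (c1 * c2).1 x = x ∧ c4.1 x = x → ∀ y,
    (c1 * c2).1 y = y ∧ c4.1 y = y → ∀ w, (c1 * c2).1 w = w ∧ c4.1 w = w → x ≠ y → x ≠ w → y ≠ w →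
      swap x y * swap y w = c3.1 ∨ swap x y * swap y w = c3⁻¹.1) _ (key _ a6 b6 (by decide +kernel))
      _ (key _ a7 b7 (by decide +kernel)) _ (key _ a11 b11 (by decide +kernel))
      (g.1.injective.ne (by decide +kernel)) (g.1.injective.ne (by decide +kernel))
      (g.1.injective.ne (by decide +kernel))
  have e : (g * c3 * g⁻¹).1 = swap (g.1 6) (g.1 (c3.1 6)) *
      swap (g.1 (c3.1 6)) (g.1 (c3.1 (c3.1 6))) := by
    rw [swap_apply_apply, swap_apply_apply, conj_mul]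
    exact congrArg (fun x => g.1 * x * g.1⁻¹) (by decide +kernel)
  exact h.imp (fun a => Subtype.ext (e.trans a)) fun a => Subtype.ext (e.trans a)

end Cfsg.Agent.H45.HnA
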