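import Cfsg.Agent.H45.IvDefs
import Cfsg.Agent.H16.IvSk
import Cfsg.Agent.H89.CyLa
import Cfsg.Agent.H29.CyLb
import Cfsg.Agent.H55.CyLc
import Cfsg.Agent.H64.IvLd
import Cfsg.Agent.H19.IvTri
import Cfsg.Agent.H83.CyFp0
import Cfsg.Agent.H41.CyFpf
import Cfsg.Agent.H61.IvTg
import Cfsg.Agent.H75.CyGa
import Cfsg.Agent.H71.CyGb
import Cfsg.Agent.H5.CyIva
import Cfsg.Agent.H47.CyNof
import Cfsg.Agent.H9.CyTra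
import Cfsg.Agent.H90.CyUex
import Cfsg.Agent.H92.CyCor
import Cfsg.Agent.H87.CyIvb
import Cfsg.Agent.H14.CySl1
import Cfsg.Agent.H24.CySl2

/-! Project CY, chapter IV from `GoodStmt`. -/

namespace Cfsg.Agent.H45.Iv

open Cfsg.Agent.H11.Cy

theorem iv_of_good (good : GoodStmt) : IvStmt :=
  iv Cfsg.Agent.H16.IvSk.sk Cfsg.Agent.H89.CyLa.la Cfsg.Agent.H29.CyLb.lb Cfsg.Agent.H55.CyLc.lc
    Cfsg.Agent.H64.IvLd.ld Cfsg.Agent.H19.IvTri.tri Cfsg.Agent.H83.CyFp0.fp0 Cfsg.Agent.H41.CyFpf.fpf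
    Cfsg.Agent.H61.IvTg.tg Cfsg.Agent.H75.CyGa.ga Cfsg.Agent.H71.CyGb.gb Cfsg.Agent.H5.CyIva.iva
    Cfsg.Agent.H47.CyNof.nof Cfsg.Agent.H9.CyTra.tra Cfsg.Agent.H90.CyUex.uex Cfsg.Agent.H92.CyCor.cor
    Cfsg.Agent.H87.CyIvb.ivb Cfsg.Agent.H14.CySl1.sl1 Cfsg.Agent.H24.CySl2.sl2 good

end Cfsg.Agent.H45.Iv
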