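import Mathlib
import Cfsg.Agent.H44.K5Defs

/-! Project K5: the Hermite bound (insurance copy). -/

set_option autoImplicit false

namespace Cfsg.Agent.H45.K5Herm

open Matrix

theorem entry00 {n : ℕ} (A U : Matrix (Fin (n + 1)) (Fin (n + 1)) ℤ) :
    (Uᵀ * A * U) 0 0 = (fun i => U i 0) ⬝ᵥ A *ᵥ (fun i => U i 0) := by
  simp only [Matrix.mul_apply, transpose_apply, dotProduct, mulVec, Finset.sum_mul, Finset.mul_sum]
  rw [Finset.sum_comm]
  exact Finset.sum_congr rfl fun i _ => Finset.sum_congr rfl fun j _ => by ring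

theorem q_cons {n : ℕ} (B : Matrix (Fin (n + 1)) (Fin (n + 1)) ℤ) (hB : Bᵀ = B) (k : ℤ)
    (y : Fin n → ℤ) : (Fin.cons k y : Fin (n + 1) → ℤ) ⬝ᵥ B *ᵥ (Fin.cons k y : Fin (n + 1) → ℤ) =
      B 0 0 * k ^ 2 + 2 * k * (∑ j, B 0 j.succ * y j) + ∑ i, ∑ j, y i * B i.succ j.succ * y j := by
  have hs : ∀ i : Fin n, B i.succ 0 = B 0 i.succ := fun i => (congrFun (congrFun hB i.succ) 0).symm
  simp only [dotProduct, mulVec, Fin.sum_univ_succ, Fin.cons_zero, Fin.cons_succ, mul_add,
    Finset.sum_add_distrib, Finset.mul_sum, hs]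
  have e1 : ∑ i : Fin n, y i * (B 0 i.succ * k) = ∑ i : Fin n, k * (B 0 i.succ * y i) :=
    Finset.sum_congr rfl fun i _ => by ring
  have e2 : ∑ i : Fin n, 2 * k * (B 0 i.succ * y i) = 2 * ∑ i : Fin n, k * (B 0 i.succ * y i) := by
    rw [Finset.mul_sum]; exact Finset.sum_congr rfl fun i _ => by ring
  have e3 : ∑ i : Fin n, ∑ j : Fin n, y i * (B i.succ j.succ * y j) =
      ∑ i : Fin n, ∑ j : Fin n, y i * B i.succ j.succ * y j :=
    Finset.sum_congr rfl fun i _ => Finset.sum_congr rfl fun j _ => by ring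
  rw [e1, e2, e3]; ring

/-- scaled Schur complement -/
def schur {n : ℕ} (B : Matrix (Fin (n + 1)) (Fin (n + 1)) ℤ) : Matrix (Fin n) (Fin n) ℤ :=
  Matrix.of fun i j => B 0 0 * B i.succ j.succ - B 0 i.succ * B 0 j.succ

theorem q_schur {n : ℕ} (B : Matrix (Fin (n + 1)) (Fin (n + 1)) ℤ) (y : Fin n → ℤ) :
    y ⬝ᵥ schur B *ᵥ y =
      B 0 0 * (∑ i, ∑ j, y i * B i.succ j.succ * y j) - (∑ j, B 0 j.succ * y j) ^ 2 := by
  rw [sq, Finset.sum_mul_sum]
  simp only [dotProduct, mulVec, schur, of_apply, Finset.mul_sum, ← Finset.sum_sub_distrib]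
  exact Finset.sum_congr rfl fun i _ => Finset.sum_congr rfl fun j _ => by ring

theorem det_col {n : ℕ} (M : Matrix (Fin (n + 1)) (Fin (n + 1)) ℤ) (h : ∀ i : Fin n, M i.succ 0 = 0) :
    M.det = M 0 0 * (M.submatrix Fin.succ Fin.succ).det := by
  rw [det_succ_column_zero, Fin.sum_univ_succ]
  simp [h]

theorem det_schur {n : ℕ} (B : Matrix (Fin (n + 1)) (Fin (n + 1)) ℤ) (hB : Bᵀ = B) :
    B 0 0 * (schur B).det = B 0 0 ^ n * B.det := by
  have hs : ∀ i : Fin n, B i.succ 0 = B 0 i.succ := fun i => (congrFun (congrFun hB i.succ) 0).symm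
  let E : Matrix (Fin (n + 1)) (Fin (n + 1)) ℤ := Matrix.of
    (Fin.cons (Pi.single 0 1) fun i : Fin n => Pi.single i.succ (B 0 0) - Pi.single 0 (B 0 i.succ))
  have hE0 : ∀ j, (E * B) 0 j = B 0 j := fun j => by
    simp [E, Matrix.mul_apply, Pi.single_apply]
  have hEs : ∀ (i : Fin n) j, (E * B) i.succ j = B 0 0 * B i.succ j - B 0 i.succ * B 0 j := fun i j => by
    simp [E, Matrix.mul_apply, Pi.single_apply, sub_mul, Finset.sum_sub_distrib]
  have h1 : (E * B).det = B 0 0 * (schur B).det := by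
    rw [det_col _ fun i => by rw [hEs, hs]; ring, hE0]
    congr 2
    ext i j
    rw [submatrix_apply, hEs]; rfl
  have h2 : E.det = B 0 0 ^ n := by
    rw [← det_transpose, det_col _ fun i => by simp [E, Pi.single_apply]]
    have : Eᵀ.submatrix Fin.succ Fin.succ = diagonal fun _ : Fin n => B 0 0 := by
      ext i j
      simp [E, Pi.single_apply, diagonal_apply]
    rw [this]
    simp [E]
  rw [← h1, det_mul, h2]

theorem herm : Cfsg.Agent.H44.K5.HermStmt := by
  classical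
  intro n
  induction n with
  | zero =>
    intro A _ _
    exact ⟨1, by simp, by simp [det_fin_one]⟩
  | succ n ih =>
    intro A hA hpos
    have hcol : ∀ U : Matrix (Fin (n + 2)) (Fin (n + 2)) ℤ, IsUnit U.det → 0 < (Uᵀ * A * U) 0 0 := by
      intro U hU
      rw [entry00]
      refine hpos _ fun h => hU.ne_zero (det_eq_zero_of_column_eq_zero 0 fun i => congrFun h i)
    have hex : ∃ m : ℕ, ∃ U : Matrix (Fin (n + 2)) (Fin (n + 2)) ℤ, IsUnit U.det ∧
        (Uᵀ * A * U) 0 0 = m :=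
      ⟨_, 1, by simp, (Int.toNat_of_nonneg (hcol 1 (by simp)).le).symm⟩
    obtain ⟨U, hU, hUm⟩ := Nat.find_spec hex
    have hmin : ∀ W : Matrix (Fin (n + 2)) (Fin (n + 2)) ℤ, IsUnit W.det →
        (Uᵀ * A * U) 0 0 ≤ (Wᵀ * A * W) 0 0 := by
      intro W hW
      have := Nat.find_min' hex ⟨W, hW, (Int.toNat_of_nonneg (hcol W hW).le).symm⟩
      rw [hUm, ← Int.toNat_of_nonneg (hcol W hW).le]
      exact_mod_cast this
    refine ⟨U, hU, ?_⟩
    set B := Uᵀ * A * U with hBdef
    have hB : Bᵀ = B := by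
      rw [hBdef, transpose_mul, transpose_mul, transpose_transpose, hA, Matrix.mul_assoc]
    have ha : 0 < B 0 0 := hcol U hU
    have hdet : B.det = A.det := by
      rw [hBdef, det_mul, det_mul, det_transpose]
      rcases Int.isUnit_iff.mp hU with h | h <;> rw [h] <;> ring
    have hBpos : ∀ x : Fin (n + 2) → ℤ, x ≠ 0 → 0 < x ⬝ᵥ B *ᵥ x := by
      intro x hx
      have : x ⬝ᵥ B *ᵥ x = (U *ᵥ x) ⬝ᵥ A *ᵥ (U *ᵥ x) := by
        rw [hBdef, ← mulVec_mulVec, ← mulVec_mulVec, dotProduct_mulVec, vecMul_transpose]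
      rw [this]
      exact hpos _ fun h => hx (Matrix.eq_zero_of_mulVec_eq_zero hU.ne_zero h)
    have hS : (schur B)ᵀ = schur B := by
      ext i j
      have := congrFun (congrFun hB i.succ) j.succ
      simp only [transpose_apply] at this
      simp only [schur, transpose_apply, of_apply, this]; ring
    have hSpos : ∀ y : Fin (n + 1) → ℤ, y ≠ 0 → 0 < y ⬝ᵥ schur B *ᵥ y := by
      intro y hy
      have h1 := hBpos (Fin.cons (-(∑ j, B 0 j.succ * y j)) fun i => B 0 0 * y i) (by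
        intro h
        apply hy
        funext i
        have := congrFun h i.succ
        simp only [Fin.cons_succ, Pi.zero_apply] at this
        exact (mul_eq_zero.mp this).resolve_left ha.ne')
      rw [q_cons B hB] at h1
      have e1 : ∑ j, B 0 j.succ * (B 0 0 * y j) = B 0 0 * ∑ j, B 0 j.succ * y j := by
        rw [Finset.mul_sum]; exact Finset.sum_congr rfl fun i _ => by ring
      have e2 : ∑ i, ∑ j, B 0 0 * y i * B i.succ j.succ * (B 0 0 * y j) =
          B 0 0 ^ 2 * ∑ i, ∑ j, y i * B i.succ j.succ * y j := by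
        simp only [Finset.mul_sum]
        exact Finset.sum_congr rfl fun i _ => Finset.sum_congr rfl fun j _ => by ring
      rw [e1, e2] at h1
      rw [q_schur]
      refine pos_of_mul_pos_left (b := B 0 0) ?_ ha.le
      nlinarith
    obtain ⟨V, hV, hVb⟩ := ih (schur B) hS hSpos
    rw [entry00] at hVb
    set y : Fin (n + 1) → ℤ := fun i => V i 0 with hy
    set β := ∑ j, B 0 j.succ * y j with hβ
    obtain ⟨k, hk⟩ : ∃ k : ℤ, 4 * (B 0 0 * k + β) ^ 2 ≤ B 0 0 ^ 2 := by
      have h1 := Int.emod_nonneg β ha.ne'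
      have h2 := Int.emod_lt_of_pos β ha
      have h3 := Int.emod_def β (B 0 0)
      by_cases h : 2 * (β % B 0 0) ≤ B 0 0
      · refine ⟨-(β / B 0 0), ?_⟩
        have : B 0 0 * -(β / B 0 0) + β = β % B 0 0 := by rw [h3]; ring
        rw [this]; nlinarith
      · refine ⟨-(β / B 0 0) - 1, ?_⟩
        have : B 0 0 * (-(β / B 0 0) - 1) + β = β % B 0 0 - B 0 0 := by rw [h3]; ring
        rw [this]; nlinarith
    let W0 : Matrix (Fin (n + 2)) (Fin (n + 2)) ℤ := Matrix.of
      (Fin.cons (Fin.cons 1 fun _ => k) fun i : Fin (n + 1) => Fin.cons 0 fun j => V i j)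
    have hW0 : W0.det = V.det := by
      rw [det_col _ fun i => by simp [W0]]
      have : W0.submatrix Fin.succ Fin.succ = V := by
        ext i j; simp [W0]
      rw [this]; simp [W0]
    let W := W0.submatrix id (Equiv.swap (0 : Fin (n + 2)) 1)
    have hW : IsUnit W.det := by
      rw [det_permute', hW0]
      exact (Units.isUnit _).mul hV
    have hWc : (fun i => W i 0) = (Fin.cons k y : Fin (n + 2) → ℤ) := by
      funext i
      have : W i 0 = W0 i (Fin.succ 0) := by simp [W]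
      rw [this]
      refine Fin.cases ?_ (fun i => ?_) i
      · rfl
      · rfl
    have h1 := hmin (U * W) (by rw [det_mul]; exact hU.mul hW)
    have h2 : (U * W)ᵀ * A * (U * W) = Wᵀ * B * W := by
      rw [hBdef, transpose_mul]; simp only [Matrix.mul_assoc]
    rw [h2, entry00, hWc, q_cons B hB, ← hβ] at h1
    have h3 := q_schur B y
    rw [← hβ] at h3
    set s := y ⬝ᵥ schur B *ᵥ y with hs
    have h4 : 3 * B 0 0 ^ 2 ≤ 4 * s := by
      have := mul_le_mul_of_nonneg_left h1 ha.le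
      nlinarith
    have h5 := det_schur B hB
    have hm : (n + 1) * (n + 1 + 1) / 2 = n * (n + 1) / 2 + (n + 1) := by
      have : (n + 1) * (n + 1 + 1) = n * (n + 1) + 2 * (n + 1) := by ring
      rw [this, Nat.add_mul_div_left _ _ (by norm_num : 0 < 2)]
    rw [hm, ← hdet]
    set m := n * (n + 1) / 2
    have h6 : (3 * B 0 0 ^ 2) ^ (n + 1) ≤ (4 * s) ^ (n + 1) :=
      pow_le_pow_left₀ (by positivity) h4 _
    refine le_of_mul_le_mul_left ?_ (pow_pos ha (n + 1))
    calc B 0 0 ^ (n + 1) * (B 0 0 ^ (n + 1 + 1) * 3 ^ (m + (n + 1)))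
        = B 0 0 * 3 ^ m * (3 * B 0 0 ^ 2) ^ (n + 1) := by ring
      _ ≤ B 0 0 * 3 ^ m * (4 * s) ^ (n + 1) := mul_le_mul_of_nonneg_left h6 (by positivity)
      _ = B 0 0 * 4 ^ (n + 1) * (s ^ (n + 1) * 3 ^ m) := by ring
      _ ≤ B 0 0 * 4 ^ (n + 1) * (4 ^ m * (schur B).det) :=
          mul_le_mul_of_nonneg_left hVb (by positivity)
      _ = 4 ^ (m + (n + 1)) * (B 0 0 * (schur B).det) := by ring
      _ = _ := by rw [h5]; ring

end Cfsg.Agent.H45.K5Herm
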