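import Cfsg.Agent.H42.PcDefs

/-! Project PC: orbit counting. -/

set_option autoImplicit false

namespace Cfsg.Agent.H45.PcOrb

open Subgroup MulAction Cfsg.Agent.H42.Pc

universe u

theorem os {H X : Type u} [Group H] [MulAction H X] (x : X) :
    Nat.card (orbit H x) * Nat.card (stabilizer H x) = Nat.card H := by
  rw [← (stabilizer H x).index_mul_card, index_stabilizer]
  rfl

theorem sm {H X : Type u} [Group H] [MulAction H X] [Finite X]
    [Fintype (orbitRel.Quotient H X)] :
    Nat.card X = ∑ q : orbitRel.Quotient H X, Nat.card (orbit H q.out) := by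
  rw [Nat.card_congr (selfEquivSigmaOrbits H X), Nat.card_sigma]

theorem orb : OrbStmt.{u} := by
  intro S Ω _ _ _ _ T A c l hT hl hc hs hA inv mt x hx s hsx
  classical
  let B : SubMulAction T Ω := ⟨A, fun t y hy => inv y hy t t.2⟩
  letI : Fintype (orbitRel.Quotient S Ω) := Fintype.ofFinite _
  letI : Fintype (orbitRel.Quotient T B) := Fintype.ofFinite _
  set ν := Fintype.card (orbitRel.Quotient S Ω) with hν
  have pS : 0 < Nat.card S := Nat.card_pos
  have pT : 0 < Nat.card T := Nat.card_pos
  have e1 : Nat.card Ω * c = ν * Nat.card S := by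
    rw [sm (H := S) (X := Ω), Finset.sum_mul,
      Finset.sum_congr rfl (fun q _ => by rw [← hs q.out, os]), Finset.sum_const, smul_eq_mul,
      Finset.card_univ]
  have pO : 0 < Nat.card Ω := by
    haveI : Nonempty Ω := ⟨x⟩
    exact Nat.card_pos
  have e2 : c = ν * l := by
    apply Nat.eq_of_mul_eq_mul_left pO
    rw [e1, ← hc]; ring
  have pν : 0 < ν := by
    haveI : Nonempty (orbitRel.Quotient S Ω) := ⟨Quotient.mk _ x⟩
    exact Fintype.card_pos
  have e3 : ∀ y : B, Nat.card T ≤ Nat.card (orbit T y) * ν := by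
    intro y
    rw [← os (H := T) y]
    apply Nat.mul_le_mul_left
    apply Nat.le_of_dvd pν
    obtain ⟨k, hk⟩ := IsPGroup.iff_card.1 (hT.to_subgroup (stabilizer T y))
    have d : Nat.card (stabilizer T y) ∣ c := by
      rw [← hs (y : Ω)]
      refine card_dvd_of_injective (((stabilizer T y).subtype |> T.subtype.comp).codRestrict _
        fun g => ?_) fun a b e => ?_
      · exact congrArg Subtype.val g.2
      · have e' := congrArg Subtype.val e
        exact Subtype.ext (Subtype.ext e')
    rw [e2, hk] at d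
    rw [hk]
    exact (Nat.Coprime.pow_left k (Nat.coprime_two_left.2 hl)).dvd_of_dvd_mul_right d
  have e4 : Fintype.card (orbitRel.Quotient T B) ≤ ν := by
    apply Nat.le_of_mul_le_mul_right _ pT
    have h1 : Nat.card B = Nat.card T := hA
    calc Fintype.card (orbitRel.Quotient T B) * Nat.card T
        = ∑ _q : orbitRel.Quotient T B, Nat.card T := by
          rw [Finset.sum_const, smul_eq_mul, Finset.card_univ]
      _ ≤ ∑ q : orbitRel.Quotient T B, Nat.card (orbit T q.out) * ν :=
          Finset.sum_le_sum fun q _ => e3 _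
      _ = ν * Nat.card T := by rw [← Finset.sum_mul, ← sm, h1, mul_comm]
  let f : orbitRel.Quotient T B → orbitRel.Quotient S Ω :=
    Quotient.map (fun y => (y : Ω)) fun a b ⟨t, ht⟩ => ⟨(t : S), congrArg Subtype.val ht⟩
  have fs : Function.Surjective f := by
    intro q
    induction q using Quotient.inductionOn with
    | h y =>
      obtain ⟨g, hg⟩ := mt y
      exact ⟨Quotient.mk _ ⟨g • y, hg⟩, Quotient.sound ⟨g, rfl⟩⟩
  have fi : Function.Injective f :=
    ((Fintype.bijective_iff_surjective_and_card f).2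
      ⟨fs, le_antisymm e4 (Fintype.card_le_of_surjective f fs)⟩).1
  have := fi (a₁ := Quotient.mk _ ⟨s • x, hsx⟩) (a₂ := Quotient.mk _ ⟨x, hx⟩) (Quotient.sound ⟨s, rfl⟩)
  obtain ⟨t, ht⟩ := Quotient.exact this
  exact ⟨t, t.2, congrArg Subtype.val ht⟩

end Cfsg.Agent.H45.PcOrb
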