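import Cfsg.Agent.H46.SKit
import Cfsg.Agent.H45.SOa2

/-! Project S95, piece ONH1. -/

set_option autoImplicit false
set_option linter.unusedSectionVars false
open scoped Pointwise commutatorElement
open Subgroup

namespace Cfsg.Agent.H45.SOn1
open Cfsg.Agent.H46.S95 Cfsg.Agent.H45.SOa

universe u

variable {Γ : Type} [Group Γ] {G : Type u} [Group G] [Finite G] {φ : Γ →* G} {t : G}
  {O : Subgroup G} {z ζ : Γ} {B V : Subgroup Γ}

/-- An element of `G` mapping `φ P` into itself induces an automorphism of `P`. -/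
theorem exists_res (hi : Function.Injective φ) {P : Subgroup Γ} {n : G}
    (h : ∀ l ∈ P, ∃ l' ∈ P, n * φ l * n⁻¹ = φ l') :
    ∃ θ : MulAut P, ∀ l : P, φ (θ l) = n * φ l * n⁻¹ :=
  exists_aut (φ := φ.comp P.subtype) (hi.comp P.subtype_injective) (mem_normalizer_fintype (by
    rintro _ ⟨l, rfl⟩
    obtain ⟨l', h1, h2⟩ := h l l.2
    exact ⟨⟨l', h1⟩, h2.symm⟩))

/-- `n` interchanges `t` and `t z`. -/
def Sw (φ : Γ →* G) (t : G) (z : Γ) (n : G) : Prop :=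
  n * t * n⁻¹ = t * φ z ∧ n * φ z * n⁻¹ = φ z

theorem Sw.left (h : Cx φ t O) {n : G} (s : Sw φ t z n) {c : Γ} (hc : c * z = z * c) :
    Sw φ t z (φ c * n) := by
  have e : φ c * φ z * (φ c)⁻¹ = φ z := by rw [← map_mul, hc, map_mul, mul_inv_cancel_right]
  refine ⟨?_, ?_⟩
  · calc _ = φ c * (n * t * n⁻¹) * (φ c)⁻¹ := by group
      _ = φ c * t * (φ c)⁻¹ * (φ c * φ z * (φ c)⁻¹) := by rw [s.1]; group
      _ = _ := by rw [e, h.AC, mul_inv_cancel_right]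
  · calc _ = φ c * (n * φ z * n⁻¹) * (φ c)⁻¹ := by group
      _ = _ := by rw [s.2, e]

theorem Sw.back (zz : z * z = 1) {n : G} (s : Sw φ t z n) : n * (t * φ z) * n⁻¹ = t := by
  rw [← conj_mul, s.1, s.2, mul_assoc, ← map_mul, zz, map_one, mul_one]

theorem Sw.nrm (hb : Base Γ) (a : OA2 z ζ B V) (h : Cx φ t O) {n : G} (s : Sw φ t z n) :
    ∀ l ∈ Cz ζ, ∃ l' ∈ Cz ζ, n * φ l * n⁻¹ = φ l' := by
  let D : Subgroup G := centralizer {t} ⊓ centralizer {φ z}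
  have h1 : (Cz ζ).map φ ≤ D := by
    rintro _ ⟨l, hl, rfl⟩
    refine ⟨mem_centralizer_singleton_iff.2 (h.AC l), mem_centralizer_singleton_iff.2 ?_⟩
    rw [← map_mul, ← map_mul, ← a.sq, ← mul_assoc, mem_Cz.1 hl, mul_assoc, mem_Cz.1 hl, mul_assoc]
  have h2 : D.map (MulAut.conj n).toMonoidHom ≤ D := by
    rintro _ ⟨d, ⟨d1, d2⟩, rfl⟩
    have d3 : Commute d t := mem_centralizer_singleton_iff.1 d1
    have d4 : Commute d (φ z) := mem_centralizer_singleton_iff.1 d2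
    have d5 := (d3.mul_right d4).conj n
    have d6 := d4.conj n
    rw [s.back a.zz] at d5
    rw [s.2] at d6
    exact ⟨mem_centralizer_singleton_iff.2 d5, mem_centralizer_singleton_iff.2 d6⟩
  have h3 : ∀ x ∈ ⁅D, D⁆, ∃ c ∈ Cz z, ∃ o ∈ O, x = φ c * o := fun x hx => by
    obtain ⟨c, o, ho, rfl⟩ := h.mem_sup.1 (h.der hb (commutator_mono inf_le_left inf_le_left hx))
    refine ⟨c, mem_Cz.2 (h.inj ?_), o, ho, rfl⟩
    have := mem_centralizer_singleton_iff.1 (commutator_le_self D hx).2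
    rw [mul_assoc, ← h.oA ho, ← mul_assoc, ← mul_assoc] at this
    rw [map_mul, map_mul, mul_right_cancel this]
  have h4 : ⁅⁅D, D⁆, ⁅D, D⁆⁆ ≤ (Cz ζ).map φ ⊔ O := commutator_le.2 fun x hx y hy => by
    obtain ⟨c, hc, o, ho, rfl⟩ := h3 x hx
    obtain ⟨d, hd, p, hp, rfl⟩ := h3 y hy
    have k : ∀ e, ∀ q ∈ O, ∀ w, q * (φ e * w) = φ e * (q * w) := fun e q hq w => by
      rw [← mul_assoc, ← h.oA hq, mul_assoc]
    have : ⁅φ c * o, φ d * p⁆ = φ ⁅c, d⁆ * ⁅o, p⁆ := by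
      simp only [commutatorElement_def, map_mul, mul_inv_rev, mul_assoc, ← map_inv]
      rw [k d o ho, k c⁻¹ _ (inv_mem ho), k c⁻¹ p hp, k c⁻¹ o ho, ← h.oA (inv_mem hp),
        k d⁻¹ _ (inv_mem ho), k d⁻¹ p hp, k d⁻¹ o ho]
    rw [this]
    exact mul_mem (mem_sup_left (mem_map_of_mem φ (a.der (commutator_mem_commutator hc hd))))
      (mem_sup_right (commutator_le_self O (commutator_mem_commutator ho hp)))
  have h5 : (Cz ζ).map φ ≤ ⁅⁅D, D⁆, ⁅D, D⁆⁆ := by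
    rw [← a.perf, ← a.perf, map_commutator, map_commutator]
    exact commutator_mono (commutator_mono h1 h1) (commutator_mono h1 h1)
  have h6 : O ≤ normalizer ((Cz ζ).map φ : Set G) := fun o ho =>
    centralizer_le_normalizer _ (by rintro _ ⟨l, -, rfl⟩; exact h.oA ho l)
  intro l hl
  refine closure_induction (p := fun l _ => ∃ l' ∈ Cz ζ, n * φ l * n⁻¹ = φ l') ?_ ⟨1, one_mem _, by simp⟩
    ?_ ?_ (a.gen hl)
  · rintro l ⟨l1, l2⟩
    have k1 : n * φ l * n⁻¹ ∈ ⁅⁅D, D⁆, ⁅D, D⁆⁆ := by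
      have := mem_map_of_mem (MulAut.conj n).toMonoidHom (h5 (mem_map_of_mem φ l1))
      rw [map_commutator, map_commutator] at this
      exact commutator_mono (commutator_mono h2 h2) (commutator_mono h2 h2) this
    obtain ⟨_, ⟨l', l3, rfl⟩, o, ho, e⟩ := (coe_mul_of_right_le_normalizer_left _ _ h6).subset (h4 k1)
    have e' : φ l' * o = n * φ l * n⁻¹ := e
    have k2 : o = 1 := h.o_one_of hb ho (h.oA ho l') (m := 0) (n := 1) ⟨l', by simp⟩ (by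
      rw [e', pow_one, pow_two, conj_mul, ← map_mul, l2]; simp)
    exact ⟨l', l3, by rw [← e', k2, mul_one]⟩
  · rintro x y _ _ ⟨x', x1, x2⟩ ⟨y', y1, y2⟩
    exact ⟨x' * y', mul_mem x1 y1, by rw [map_mul, map_mul, ← conj_mul, x2, y2]⟩
  · rintro x _ ⟨x', x1, x2⟩
    exact ⟨x'⁻¹, inv_mem x1, by rw [map_inv, map_inv, ← x2]; group⟩

theorem onH1 : OnH1Stmt2.{u} := by
  intro Γ _ G _ _ φ t O z ζ B V hb a h hi
  have BL : B ≤ Cz ζ := fun b hb => mem_Cz.2 (a.ab b hb ζ a.zB)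
  have VB : V ≤ B := fun v hv => ((a.mem v).1 hv).1
  have zB : z ∈ B := a.sq ▸ mul_mem a.zB a.zB
  have zV : z ∈ V := (a.mem z).2 ⟨zB, a.zz⟩
  have Lz : ∀ c ∈ Cz ζ, c * z = z * c := fun c hc => by
    rw [← a.sq, ← mul_assoc, mem_Cz.1 hc, mul_assoc, mem_Cz.1 hc, mul_assoc]
  have nV : ∀ p ∈ normalizer (B : Set Γ), ∀ v ∈ V, p * v * p⁻¹ ∈ V := fun p hp v hv =>
    (a.mem _).2 ⟨(mem_normalizer_iff.1 hp v).1 (VB hv), by rw [conj_mul, ((a.mem v).1 hv).2]; simp⟩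
  -- the first swap
  obtain ⟨n0, s0⟩ : ∃ n, Sw φ t z n := by
    obtain ⟨g, b, g1, g2, -⟩ := h.swap hb a.zz hi
    have b2 : b * b = 1 := h.inj (by
      rw [map_mul, map_one, ← conj_eq_one_iff (a := g), ← conj_mul, g2, ← map_mul, a.zz, map_one])
    obtain ⟨c, hc⟩ := isConj_iff.1 (a.one b b2 fun e => a.z1 (h.inj (by rw [← g2, e]; simp)))
    refine ⟨g * φ c, ?_, ?_⟩
    · rw [mul_assoc g, h.AC, ← g1]; group
    · conv_rhs => rw [← g2, ← hc, map_mul, map_mul, map_inv]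
      group
  -- centralise `V`
  obtain ⟨n1, s1, v1⟩ : ∃ n, Sw φ t z n ∧ ∀ v ∈ V, n * φ v * n⁻¹ = φ v := by
    obtain ⟨θ, hθ⟩ := exists_res h.inj (s0.nrm hb a h)
    obtain ⟨c, hc, k⟩ := a.vch θ
    have s := s0.left h (Lz c hc)
    obtain ⟨θ', hθ'⟩ := exists_res h.inj (P := V) (n := φ c * n0) fun v hv =>
      ⟨_, k ⟨v, BL (VB hv)⟩ hv, by rw [map_mul, map_mul, map_inv, hθ]; group⟩
    obtain ⟨g, hg⟩ := a.gl θ'⁻¹
    have e : θ' ⟨z, zV⟩ = ⟨z, zV⟩ := Subtype.ext (h.inj ((hθ' _).trans s.2))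
    have e' := hg (θ' ⟨z, zV⟩)
    rw [MulAut.inv_apply_self, e] at e'
    refine ⟨_, s.left h (c := g) (mul_inv_eq_iff_eq_mul.1 e'), fun v hv => ?_⟩
    have := congrArg φ (hg (θ' ⟨v, hv⟩))
    rw [MulAut.inv_apply_self, map_mul, map_mul, map_inv, hθ'] at this
    refine Eq.trans ?_ this
    group
  -- centralise `B`
  obtain ⟨n2, s2, v2⟩ : ∃ n, Sw φ t z n ∧ ∀ b ∈ B, n * φ b * n⁻¹ = φ b := by
    obtain ⟨θ, hθ⟩ := exists_res h.inj (P := B) (n := n1) fun b hb' => by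
      obtain ⟨l, l1, l2⟩ := s1.nrm hb a h b (BL hb')
      refine ⟨l, a.cv l l1 fun v hv => h.inj ?_, l2⟩
      rw [map_mul, map_mul, ← l2, ← v1 v hv, conj_mul, conj_mul, ← map_mul, ← map_mul,
        a.ab v (VB hv) b hb']
    rcases a.psi θ (fun v hv => Subtype.ext (h.inj ((hθ v).trans (v1 v hv)))) (fun p hp pz => by
      have k1 : φ p * n1 * (φ p)⁻¹ * n1⁻¹ * t = t * (φ p * n1 * (φ p)⁻¹ * n1⁻¹) := by
        have s3 := (s1.left h pz).back a.zz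
        have s4 : φ p * (t * φ z) * (φ p)⁻¹ = t * φ z := by
          rw [← mul_assoc, h.AC, mul_assoc t, ← map_mul, pz, map_mul]; group
        have s5 : n1 * (φ p * (t * φ z) * (φ p)⁻¹) * n1⁻¹ = t := by rw [s4, s1.back a.zz]
        generalize t * φ z = w at s3 s5
        calc _ = φ p * n1 * (φ p)⁻¹ * n1⁻¹ * (n1 * (φ p * w * (φ p)⁻¹) * n1⁻¹) := by rw [s5]
          _ = φ p * n1 * w * (φ p * n1)⁻¹ * (φ p * n1 * (φ p)⁻¹ * n1⁻¹) := by group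
          _ = _ := by rw [s3]
      obtain ⟨α, hα⟩ := h.aut k1
      have k2 : ∀ b c : B, (c : Γ) = p * b * p⁻¹ → α (θ c) = p * θ b * p⁻¹ := fun b c e => h.inj (by
        rw [hα, hθ, e, map_mul, map_mul, map_mul, map_mul, map_inv, hθ]; group)
      refine (a.cV α fun v hv => h.inj ?_).imp (fun k b c e => ?_) fun k b c e => ?_
      · have k3 := v1 _ (nV p⁻¹ (inv_mem hp) v hv)
        have k4 : n1⁻¹ * φ v * n1 = φ v := by
          conv_lhs => rw [← v1 v hv]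
          group
        simp only [map_mul, map_inv] at k3
        calc _ = φ p * (n1 * ((φ p)⁻¹ * (n1⁻¹ * φ v * n1) * (φ p)⁻¹⁻¹) * n1⁻¹) * (φ p)⁻¹ := by
              rw [hα]; group
          _ = _ := by rw [k4, k3]; group
      · rw [← k2 b c e, k _ (θ c).2]
      · rw [← k2 b c e, k _ (θ c).2, inv_inv]) with e | e
    · exact ⟨n1, s1, fun b hb' => by rw [← hθ ⟨b, hb'⟩, e]; rfl⟩
    · obtain ⟨ρ, ρ1, ρ2⟩ := a.cyc
      have key : ∀ {n : G} {x : Γ}, n * t * n⁻¹ = t * φ x → (∀ b ∈ B, n * φ b * n⁻¹ = φ b⁻¹) →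
          φ ρ * n * (φ ρ)⁻¹ * t * (φ ρ * n * (φ ρ)⁻¹)⁻¹ = t * φ (ρ * x * ρ⁻¹) ∧
          ∀ b ∈ B, φ ρ * n * (φ ρ)⁻¹ * φ b * (φ ρ * n * (φ ρ)⁻¹)⁻¹ = φ b⁻¹ := fun {n x} e1 e2 => by
        refine ⟨?_, fun b hb' => ?_⟩
        · calc _ = φ ρ * (n * (φ ρ⁻¹ * t) * φ ρ * n⁻¹) * (φ ρ)⁻¹ := by rw [map_inv]; group
            _ = φ ρ * (n * t * n⁻¹) * (φ ρ)⁻¹ := by rw [h.AC, map_inv]; group
            _ = _ := by rw [e1, ← mul_assoc, h.AC, map_mul, map_mul, map_inv]; group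
        · have := e2 _ ((mem_normalizer_iff.1 (inv_mem ρ1) b).1 hb')
          simp only [map_mul, map_inv] at this ⊢
          calc _ = φ ρ * (n * ((φ ρ)⁻¹ * φ b * (φ ρ)⁻¹⁻¹) * n⁻¹) * (φ ρ)⁻¹ := by group
            _ = _ := by rw [this]; group
      obtain ⟨p1, p2⟩ := key s1.1 fun b hb' => by rw [← hθ ⟨b, hb'⟩, e]; rfl
      obtain ⟨q1, q2⟩ := key p1 p2
      generalize φ ρ * (φ ρ * n1 * (φ ρ)⁻¹) * (φ ρ)⁻¹ = m2 at q1 q2
      generalize φ ρ * n1 * (φ ρ)⁻¹ = m1 at p1 p2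
      have r : ∀ b ∈ B, m1 * m2 * φ b * (m1 * m2)⁻¹ = φ b := fun b hb' => by
        calc _ = m1 * (m2 * φ b * m2⁻¹) * m1⁻¹ := by group
          _ = _ := by rw [q2 b hb', p2 _ (inv_mem hb'), inv_inv]
      have yV := nV ρ ρ1 z zV
      refine ⟨m1 * m2, ⟨?_, r z zB⟩, r⟩
      calc _ = m1 * (m2 * t * m2⁻¹) * m1⁻¹ := by group
        _ = _ := by
          rw [q1, ρ2, ← conj_mul, p1, p2 _ (mul_mem zB (VB yV)), mul_assoc, ← map_mul, mul_inv_rev,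
            mul_inv_cancel_left, inv_eq_of_mul_eq_one_right a.zz]
  obtain ⟨θ, hθ⟩ := exists_res h.inj (s2.nrm hb a h)
  obtain ⟨c, hc, k⟩ := a.inB θ fun b hb' => Subtype.ext (h.inj ((hθ b).trans (v2 b hb')))
  refine ⟨_, (s2.left h (a.ab _ (inv_mem hc) z zB)).1, fun l hl => ?_⟩
  have := hθ ⟨l, hl⟩
  rw [k, map_mul, map_mul, map_inv] at this
  calc _ = (φ c)⁻¹ * (n2 * φ l * n2⁻¹) * n2 := by rw [map_inv]; group
    _ = _ := by rw [← this, map_inv]; group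

end Cfsg.Agent.H45.SOn1
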