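import Cfsg.Agent.H44.OnBV
import Cfsg.Agent.H45.SOa2

/-! Project S95: the facts `OA2` for the O'Nan group (`4³ · L₃(2)`). -/

set_option autoImplicit false

namespace Cfsg.Agent.H45.SOnOA

open Subgroup Cfsg.Agent.H44 Cfsg.Agent.H44.OnBV Cfsg.Agent.H59 Cfsg.Agent.H59.On
  Cfsg.Agent.H46.S95 Cfsg.Agent.H46.S95.On

/-- the elements of `V`, numbered as bit vectors -/
def WX : List (List ℕ) := [[], [1], [6], [1, 6], [4, 7, 3, 4, 7, 3], [8, 4, 3, 7, 4, 3],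
  [7, 4, 3, 7, 4, 3], [4, 8, 3, 4, 7, 3]]

noncomputable def e (k : ℕ) : Γ := ev ν (nth [] WX k)

theorem e_zero : e 0 = 1 := rfl

theorem e_one : e 1 = ν 1 := ev_single ν 1

theorem r8 {k : ℕ} (h : k < 8) : k ∈ List.range 8 := List.mem_range.2 h

theorem e_mul {i j : ℕ} (hi : i < 8) (hj : j < 8) : e i * e j = e (i ^^^ j) := by
  rw [e, e, ← ev_append]
  exact ko.eq _ _ (allL_iff.1 (allL_iff.1 (by decide +kernel : allL (fun i => allL (fun j =>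
    eqB (nth [] WX i ++ nth [] WX j) (nth [] WX (i ^^^ j))) (List.range 8)) (List.range 8) = true)
    i (r8 hi)) j (r8 hj))

theorem e_inj {i j : ℕ} (hi : i < 8) (hj : j < 8) (h : e i = e j) : i = j :=
  (bO_iff.1 (allL_iff.1 (allL_iff.1 (by decide +kernel : allL (fun i => allL (fun j =>
    bO (Nat.beq i j) (bN (eqB (nth [] WX i) (nth [] WX j)))) (List.range 8)) (List.range 8) = true)
    i (r8 hi)) j (r8 hj))).elim Nat.eq_of_beq_eq_true fun k => absurd h (ko.ne _ _ k)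

theorem x8 {i j : ℕ} (hi : i < 8) (hj : j < 8) : i ^^^ j < 8 := Nat.xor_lt_two_pow (n := 3) hi hj

theorem e_mem (k : ℕ) : e k ∈ V := (nth_mem [] WX k).elim
  (fun h => by rw [e, h]; exact one_mem _) fun h =>
    WV_mem _ ((by decide : ∀ w ∈ WX, w ∈ WV) _ h)

theorem V_e {v : Γ} (h : v ∈ V) : ∃ k < 8, v = e k := by
  obtain ⟨w, hw, rfl⟩ := mem_V.1 h
  obtain ⟨k, hk, h⟩ := (by decide +kernel : ∀ w ∈ WV, ∃ k < 8, w = nth [] WX k) w hw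
  exact ⟨k, hk, by rw [e, ← h]⟩

theorem hom_ext {S : List (List ℕ)} {H : Type} [Group H] (f g : wgen ν S →* H)
    (h : ∀ s (hs : s ∈ S), f ⟨ev ν s, mem_wgen ν s hs⟩ = g ⟨ev ν s, mem_wgen ν s hs⟩) : f = g :=
  MonoidHom.eq_of_eqOn_dense (closure_closure_coe_preimage (k := {y | ∃ s ∈ S, ev ν s = y})) (by
    rintro ⟨x, hx⟩ ⟨s, hs, rfl⟩; exact h s hs)

/-- three elements of the normaliser of `B` and their action on `V` -/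
def G : ℕ → List ℕ × List ℕ
  | 0 => ([4], [0, 1, 2, 3, 5, 4, 7, 6])
  | 1 => ([5, 4, 3, 4, 5, 8, 5, 4, 3, 4, 7, 5], [0, 1, 4, 5, 6, 7, 2, 3])
  | _ + 2 => ([2, 3, 4, 3, 2, 8, 2, 3, 4, 3, 7, 2], [0, 4, 2, 6, 5, 1, 7, 3])

noncomputable def P (g : ℕ) : Γ := ev ν (G g).1

noncomputable def M (g k : ℕ) : ℕ := nth 0 (G g).2 k

noncomputable def chk (g : List ℕ × List ℕ) : Bool :=
  bA (allL (fun k => bA (Nat.blt (nth 0 g.2 k) 8)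
    (eqB (g.1 ++ nth [] WX k) (nth [] WX (nth 0 g.2 k) ++ g.1))) (List.range 8))
  (allL (fun s => anyL (fun w => eqB (g.1 ++ s) (w ++ g.1)) WB) gB)

theorem G_chk : ∀ g, chk (G g) = true
  | 0 => by decide +kernel
  | 1 => by decide +kernel
  | _ + 2 => (by decide +kernel : chk (G 2) = true)

theorem P_e (g : ℕ) {k : ℕ} (hk : k < 8) : M g k < 8 ∧ P g * e k * (P g)⁻¹ = e (M g k) := by
  obtain ⟨h1, h2⟩ := bA_iff.1 (allL_iff.1 (bA_iff.1 (G_chk g)).1 k (r8 hk))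
  refine ⟨Eq.mp Nat.blt_eq h1, mul_inv_eq_iff_eq_mul.2 ?_⟩
  rw [P, e, e, ← ev_append, ← ev_append]
  exact ko.eq _ _ h2

theorem P_nor (g : ℕ) : P g ∈ normalizer (B : Set Γ) := mem_normalizer_fintype fun n hn =>
  (wgen_le (S := gB) (K := B.comap (MulAut.conj (P g)).toMonoidHom)).2 (fun s hs => by
    obtain ⟨w, hw, h⟩ := anyL_iff.1 (allL_iff.1 (bA_iff.1 (G_chk g)).2 s hs)
    have := ko.eq _ _ h
    rw [ev_append, ev_append, ← mul_inv_eq_iff_eq_mul] at this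
    exact (this ▸ WB_mem w hw : P g * ev ν s * (P g)⁻¹ ∈ B)) hn

noncomputable def act (w : List ℕ) (k : ℕ) : ℕ := w.foldr M k

theorem act_e (w : List ℕ) : ∃ h : Γ, ∀ k < 8, act w k < 8 ∧ h * e k * h⁻¹ = e (act w k) := by
  induction w with
  | nil => exact ⟨1, fun k hk => ⟨hk, by simp [act]⟩⟩
  | cons g w ih =>
    obtain ⟨h, ih⟩ := ih
    refine ⟨P g * h, fun k hk => ⟨(P_e g (ih k hk).1).1, ?_⟩⟩
    rw [show act (g :: w) k = M g (act w k) from rfl, ← (P_e g (ih k hk).1).2, ← (ih k hk).2]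
    group

/-- words for the 168 elements of `L₃(2)` -/
def L : List (List ℕ) :=
   [[], [0], [1], [2], [1, 0], [2, 0], [0, 1], [1, 1], [2, 1], [0, 2], [1, 2], [2, 2], [0, 1, 0],
   [1, 1, 0], [2, 1, 0], [1, 2, 0], [1, 0, 1], [2, 0, 1], [0, 1, 1], [2, 1, 1], [0, 2, 1], [1, 2,
   1], [2, 2, 1], [1, 0, 2], [0, 1, 2], [1, 1, 2], [2, 1, 2], [1, 2, 2], [2, 0, 1, 0], [2, 1, 1,
   0], [0, 2, 1, 0], [1, 2, 1, 0], [2, 2, 1, 0], [0, 1, 2, 0], [1, 1, 2, 0], [2, 1, 2, 0], [1, 1,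
   0, 1], [2, 1, 0, 1], [1, 2, 0, 1], [1, 0, 1, 1], [2, 0, 1, 1], [0, 2, 1, 1], [1, 2, 1, 1], [2,
   2, 1, 1], [1, 0, 2, 1], [0, 1, 2, 1], [1, 1, 2, 1], [2, 1, 2, 1], [1, 2, 2, 1], [0, 1, 0, 2],
   [1, 1, 0, 2], [2, 1, 0, 2], [1, 0, 1, 2], [2, 0, 1, 2], [0, 1, 1, 2], [2, 1, 1, 2], [0, 2, 1,
   2], [1, 2, 1, 2], [2, 2, 1, 2], [0, 1, 2, 2], [1, 1, 2, 2], [2, 1, 2, 2], [1, 2, 0, 1, 0], [0,
   2, 1, 1, 0], [1, 2, 1, 1, 0], [2, 2, 1, 1, 0], [1, 0, 2, 1, 0], [0, 1, 2, 1, 0], [1, 1, 2, 1,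
   0], [2, 1, 2, 1, 0], [1, 2, 2, 1, 0], [1, 0, 1, 2, 0], [2, 0, 1, 2, 0], [0, 1, 1, 2, 0], [2, 1,
   1, 2, 0], [0, 2, 1, 2, 0], [1, 2, 1, 2, 0], [2, 2, 1, 2, 0], [2, 1, 1, 0, 1], [1, 2, 1, 0, 1],
   [0, 1, 2, 0, 1], [1, 1, 2, 0, 1], [2, 1, 0, 1, 1], [1, 2, 0, 1, 1], [1, 0, 2, 1, 1], [0, 1, 2,
   1, 1], [1, 1, 2, 1, 1], [0, 1, 0, 2, 1], [1, 1, 0, 2, 1], [1, 0, 1, 2, 1], [0, 1, 1, 2, 1], [0,
   2, 1, 2, 1], [1, 2, 1, 2, 1], [2, 2, 1, 2, 1], [0, 1, 2, 2, 1], [2, 1, 2, 2, 1], [2, 0, 1, 0,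
   2], [0, 2, 1, 0, 2], [1, 2, 1, 0, 2], [1, 1, 0, 1, 2], [1, 0, 1, 1, 2], [2, 0, 1, 1, 2], [0, 2,
   1, 1, 2], [1, 0, 2, 1, 2], [0, 1, 2, 1, 2], [2, 1, 2, 1, 2], [1, 2, 2, 1, 2], [2, 1, 1, 2, 2],
   [0, 2, 1, 2, 2], [1, 2, 1, 2, 2], [1, 1, 2, 0, 1, 0], [1, 0, 2, 1, 1, 0], [0, 1, 2, 1, 1, 0],
   [1, 1, 2, 1, 1, 0], [1, 1, 0, 2, 1, 0], [1, 0, 1, 2, 1, 0], [1, 2, 1, 2, 1, 0], [0, 1, 2, 2, 1,
   0], [2, 1, 2, 2, 1, 0], [1, 1, 0, 1, 2, 0], [1, 0, 1, 1, 2, 0], [1, 2, 2, 1, 2, 0], [0, 2, 1, 1,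
   0, 1], [1, 2, 1, 1, 0, 1], [2, 2, 1, 1, 0, 1], [0, 1, 2, 1, 0, 1], [0, 1, 1, 2, 0, 1], [2, 1, 1,
   2, 0, 1], [1, 2, 1, 0, 1, 1], [0, 1, 2, 0, 1, 1], [0, 1, 0, 2, 1, 1], [0, 1, 1, 2, 1, 1], [1, 1,
   0, 1, 2, 1], [1, 0, 1, 1, 2, 1], [1, 0, 2, 1, 2, 1], [1, 2, 2, 1, 2, 1], [1, 2, 1, 2, 2, 1], [0,
   1, 2, 1, 0, 2], [2, 1, 2, 1, 0, 2], [2, 1, 1, 0, 1, 2], [1, 2, 0, 1, 1, 2], [1, 0, 2, 1, 1, 2],
   [1, 1, 0, 2, 1, 2], [1, 0, 1, 2, 1, 2], [1, 2, 1, 2, 1, 2], [0, 1, 2, 2, 1, 2], [2, 1, 2, 2, 1,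
   2], [0, 1, 2, 1, 2, 2], [2, 1, 2, 1, 2, 2], [0, 1, 1, 2, 0, 1, 0], [2, 1, 1, 2, 0, 1, 0], [0, 1,
   0, 2, 1, 1, 0], [0, 1, 1, 2, 1, 1, 0], [1, 1, 0, 1, 2, 1, 0], [1, 2, 1, 2, 2, 1, 0], [2, 1, 1,
   0, 1, 2, 0], [0, 1, 2, 2, 1, 2, 0], [2, 1, 2, 2, 1, 2, 0], [0, 1, 2, 1, 1, 0, 1], [0, 1, 2, 1,
   0, 1, 1], [2, 1, 1, 0, 1, 2, 1], [1, 1, 0, 2, 1, 2, 1], [2, 1, 2, 2, 1, 2, 1], [0, 1, 2, 1, 2,
   2, 1], [2, 1, 2, 1, 2, 2, 1], [1, 2, 1, 2, 1, 0, 2], [1, 2, 1, 1, 0, 1, 2], [2, 1, 2, 1, 2, 2,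
   1, 0]]

set_option synthInstance.maxSize 2000 in
theorem L_all : ∀ a < 8, ∀ b < 8, ∀ c < 8, (a ≠ 0 ∧ b ≠ 0 ∧ c ≠ 0 ∧ a ^^^ b ≠ 0 ∧ a ^^^ c ≠ 0 ∧
    b ^^^ c ≠ 0 ∧ a ^^^ b ^^^ c ≠ 0) → ∃ w ∈ L, act w 1 = a ∧ act w 2 = b ∧ act w 4 = c := by
  decide +kernel

noncomputable def E (k : ℕ) : V := ⟨e k, e_mem k⟩

theorem gl (θ : MulAut V) : ∃ h : Γ, ∀ v : V, h * (v : Γ) * h⁻¹ = (θ v : Γ) := by
  choose t t8 ht using fun k => V_e (θ (E k)).2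
  have hx : ∀ i < 8, ∀ j < 8, t (i ^^^ j) = t i ^^^ t j := fun i hi j hj =>
    e_inj (t8 _) (x8 (t8 i) (t8 j)) (by
      rw [← e_mul (t8 i) (t8 j), ← ht, ← ht, ← ht, ← coe_mul, ← map_mul]
      exact congrArg (fun x => (θ x : Γ)) (Subtype.ext (e_mul hi hj).symm))
  have hn : ∀ k < 8, k ≠ 0 → t k ≠ 0 := fun k hk h0 h => h0 (e_inj hk (by decide) (by
    have := ht k
    rw [h, e_zero, OneMemClass.coe_eq_one, map_eq_one_iff _ θ.injective] at this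
    exact congrArg Subtype.val this))
  obtain ⟨w, -, h1, h2, h4⟩ := L_all _ (t8 1) _ (t8 2) _ (t8 4) ⟨hn 1 (by decide) (by decide),
    hn 2 (by decide) (by decide), hn 4 (by decide) (by decide),
    hx 1 (by decide) 2 (by decide) ▸ hn _ (by decide) (by decide),
    hx 1 (by decide) 4 (by decide) ▸ hn _ (by decide) (by decide),
    hx 2 (by decide) 4 (by decide) ▸ hn _ (by decide) (by decide),
    hx 1 (by decide) 2 (by decide) ▸ hx _ (by decide : 1 ^^^ 2 < 8) 4 (by decide) ▸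
      hn _ (by decide) (by decide)⟩
  obtain ⟨h, hh⟩ := act_e w
  have k : ∀ i < 8, act w i = t i → h * (E i : Γ) * h⁻¹ = (θ (E i) : Γ) := fun i hi a => by
    rw [ht, ← a]; exact (hh i hi).2
  refine ⟨h, fun v => DFunLike.congr_fun (hom_ext (S := gV)
    ((MulAut.conj h).toMonoidHom.comp V.subtype) (V.subtype.comp θ.toMonoidHom) fun s hs => ?_) v⟩
  simp only [gV, List.mem_cons, List.not_mem_nil, or_false] at hs
  rcases hs with rfl | rfl | rfl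
  exacts [k 1 (by decide) h1, k 2 (by decide) h2, k 4 (by decide) h4]

theorem cyc : ∃ ρ ∈ normalizer (B : Set Γ), ρ * (ρ * ν 1 * ρ⁻¹) * ρ⁻¹ = ν 1 * (ρ * ν 1 * ρ⁻¹) := by
  refine ⟨P 2, P_nor 2, ?_⟩
  rw [← e_one, (P_e 2 (by decide : 1 < 8)).2, (P_e 2 (by decide : M 2 1 < 8)).2,
    e_mul (by decide) (by decide)]
  rfl

/-- the generators of `B` -/
noncomputable def b (i : ℕ) : B := ⟨ev ν (nth [] gB i), (nth_mem [] gB i).elim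
  (fun h => by rw [h]; exact one_mem _) (mem_wgen ν _)⟩

noncomputable def F (k : ℕ) : B := ⟨e k, V_le (e_mem k)⟩

theorem b_sq : ∀ i < 3, (b i : Γ) * b i = e (2 ^ i) := fun i hi => by
  rw [b, e, ← ev_append]
  exact ko.eq _ _ (allL_iff.1 (by decide +kernel : allL (fun i =>
    eqB (nth [] gB i ++ nth [] gB i) (nth [] WX (2 ^ i))) (List.range 3) = true) i
    (List.mem_range.2 hi))

theorem cj (g i : ℕ) (l : List ℕ) (h : eqB (l ++ (G g).1) ((G g).1 ++ nth [] gB i) = true) :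
    ev ν l = P g * b i * (P g)⁻¹ := by
  rw [eq_mul_inv_iff_mul_eq, P, b, ← ev_append, ← ev_append]
  exact ko.eq _ _ h

set_option synthInstance.maxSize 2000 in
theorem fin_psi : ∀ x < 8, ∀ y < 8, ∀ z < 8,
    (x = M 0 x ∧ y = M 0 y ∧ x ^^^ z = M 0 z ∨
      x = M 0 (1 ^^^ x) ∧ y = M 0 (2 ^^^ y) ∧ x ^^^ z = M 0 (4 ^^^ z)) →
    (x = M 1 x ∧ z = M 1 y ∧ y ^^^ z = M 1 z ∨
      x = M 1 (1 ^^^ x) ∧ z = M 1 (2 ^^^ y) ∧ y ^^^ z = M 1 (4 ^^^ z)) →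
    (x = 0 ∧ y = 0 ∧ z = 0) ∨ x = 1 ∧ y = 2 ∧ z = 4 := by
  decide +kernel

theorem psi (θ : MulAut B) (hV : ∀ v : B, (v : Γ) ∈ V → θ v = v)
    (hp : ∀ p ∈ normalizer (B : Set Γ), p * ν 1 = ν 1 * p →
      (∀ b c : B, (c : Γ) = p * b * p⁻¹ → (θ c : Γ) = p * θ b * p⁻¹) ∨
      (∀ b c : B, (c : Γ) = p * b * p⁻¹ → (θ c : Γ) = (p * θ b * p⁻¹)⁻¹)) :
    θ = 1 ∨ ∀ b, θ b = b⁻¹ := by
  have cm : ∀ x y : B, x * y = y * x := fun x y => Subtype.ext (B_comm x.2 y.2)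
  let δ : B →* Γ := B.subtype.comp (MonoidHom.mk' (fun x : B => x⁻¹ * θ x) fun x y => by
    rw [map_mul, mul_inv_rev, cm y⁻¹, mul_assoc, mul_assoc, ← mul_assoc y⁻¹, cm y⁻¹, mul_assoc])
  have hδ : ∀ x : B, (θ x : Γ) = x * δ x := fun x => (mul_inv_cancel_left (x : Γ) _).symm
  have hF : ∀ k, δ (F k) = 1 := fun k => by
    have := hδ (F k)
    rwa [hV _ (e_mem k), left_eq_mul] at this
  have dB : ∀ x, δ x ∈ B := fun x => (x⁻¹ * θ x).2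
  have dV : ∀ x, δ x ∈ V := fun x => mem_V'.2 ⟨dB x, by
    have := hδ (x * x)
    rwa [hV _ (sq_mem x.2), left_eq_mul, map_mul] at this⟩
  choose t t8 ht using fun i => V_e (dV (b i))
  have key : ∀ g, M g 1 = 1 → (∀ i < 3, ∀ c : B, ∀ j < 8, (c : Γ) = P g * b i * (P g)⁻¹ →
      δ c = e j → j = M g (t i)) ∨ (∀ i < 3, ∀ c : B, ∀ j < 8, (c : Γ) = P g * b i * (P g)⁻¹ →
      δ c = e j → j = M g (2 ^ i ^^^ t i)) := fun g hg => by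
    refine (hp _ (P_nor g) (by
      rw [← mul_inv_eq_iff_eq_mul, ← e_one, (P_e g (by decide)).2, hg])).imp
      (fun h i hi c j hj hc hd => e_inj hj (P_e g (t8 i)).1 ?_) fun h i hi c j hj hc hd => ?_
    · have := h _ _ hc
      rw [hδ, hδ, hd, ht, hc] at this
      rw [← (P_e g (t8 i)).2, ← mul_right_inj (P g * b i * (P g)⁻¹), this]
      group
    · have h2 : 2 ^ i < 8 := Nat.pow_lt_pow_right (n := 3) (by decide) hi
      refine e_inj hj (P_e g (x8 h2 (t8 i))).1 ?_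
      have := h _ _ hc
      rw [hδ, hδ, hd, ht, hc] at this
      rw [← (P_e g (x8 h2 (t8 i))).2, ← mul_right_inj (P g * b i * (P g)⁻¹), this,
        ← e_mul h2 (t8 i), inv_eq_iff_mul_eq_one]
      calc _ = P g * (b i * (e (t i) * b i) * e (2 ^ i) * e (t i)) * (P g)⁻¹ := by group
        _ = 1 := by
          rw [B_comm (V_le (e_mem _)) (b i).2, ← mul_assoc (b i : Γ), b_sq i hi, e_mul h2 (t8 i),
            mul_assoc (e _), e_mul h2 (t8 i), V_sq (e_mem _), mul_one, mul_inv_cancel]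
  have e3 : ∀ x y z, ev ν x * ev ν y * ev ν z = ev ν (x ++ y ++ z) := fun x y z => by
    rw [ev_append, ev_append]
  have a0 : (b 0 : Γ) = P 0 * b 0 * (P 0)⁻¹ := cj 0 0 _ (by decide +kernel)
  have a1 : (b 1 * F 2 : B) = P 0 * b 1 * (P 0)⁻¹ :=
    (ev_append ..).symm.trans (cj 0 1 _ (by decide +kernel))
  have a2 : (b 0 * b 2 * F 7 : B) = P 0 * b 2 * (P 0)⁻¹ :=
    (e3 ..).trans (cj 0 2 _ (by decide +kernel))
  have c0 : (b 0 : Γ) = P 1 * b 0 * (P 1)⁻¹ := cj 1 0 _ (by decide +kernel)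
  have c1 : (b 2 * F 5 : B) = P 1 * b 1 * (P 1)⁻¹ :=
    (ev_append ..).symm.trans (cj 1 1 _ (by decide +kernel))
  have c2 : (b 1 * b 2 * F 5 : B) = P 1 * b 2 * (P 1)⁻¹ :=
    (e3 ..).trans (cj 1 2 _ (by decide +kernel))
  have d1 : ∀ i k, δ (b i * F k) = e (t i) := fun i k => by rw [map_mul, hF, mul_one, ht]
  have d2 : ∀ i j k, δ (b i * b j * F k) = e (t i ^^^ t j) := fun i j k => by
    rw [map_mul, hF, mul_one, map_mul, ht, ht, e_mul (t8 i) (t8 j)]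
  have ext : ∀ f : B →* Γ, (∀ i < 3, (b i : Γ) * e (t i) = f (b i)) → ∀ x, (θ x : Γ) = f x :=
    fun f hf x => DFunLike.congr_fun (hom_ext (S := gB) (B.subtype.comp θ.toMonoidHom) f
      fun s hs => by
        have k : ∀ i < 3, (θ (b i) : Γ) = f (b i) := fun i hi => by rw [hδ, ht, hf i hi]
        simp only [gB, List.mem_cons, List.not_mem_nil, or_false] at hs
        rcases hs with rfl | rfl | rfl
        exacts [k 0 (by decide), k 1 (by decide), k 2 (by decide)]) x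
  refine (fin_psi _ (t8 0) _ (t8 1) _ (t8 2) ((key 0 rfl).imp (fun h => ?_) fun h => ?_)
    ((key 1 rfl).imp (fun h => ?_) fun h => ?_)).imp (fun h => ?_) fun h => ?_
  iterate 2
    exact ⟨h 0 (by decide) _ _ (t8 _) a0 (ht 0), h 1 (by decide) _ _ (t8 _) a1 (d1 ..),
      h 2 (by decide) _ _ (x8 (t8 _) (t8 _)) a2 (d2 ..)⟩
  iterate 2
    exact ⟨h 0 (by decide) _ _ (t8 _) c0 (ht 0), h 1 (by decide) _ _ (t8 _) c1 (d1 ..),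
      h 2 (by decide) _ _ (x8 (t8 _) (t8 _)) c2 (d2 ..)⟩
  · refine MulEquiv.ext fun x => Subtype.ext (ext B.subtype (fun i hi => ?_) x)
    have : t i = 0 := by interval_cases i <;> simp only [h]
    rw [this, e_zero, mul_one]; rfl
  · refine fun x => Subtype.ext (ext (MonoidHom.mk' (fun x : B => (x : Γ)⁻¹) fun x y => by
      rw [cm, coe_mul, mul_inv_rev]) (fun i hi => ?_) x)
    have : t i = 2 ^ i := by interval_cases i <;> simp only [h] <;> rfl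
    rw [this, MonoidHom.mk'_apply, eq_inv_iff_mul_eq_one, B_comm (b i).2 (V_le (e_mem _)),
      mul_assoc, b_sq i hi, V_sq (e_mem _)]

theorem oa (rd : RDS) (vch : VchS) (inb : InBS) : SOa.OA2 (ν 1) ζ B V :=
  { toBV := bv.1, der := rd.2, perf := rd.1.rc.perf, gen := rd.1.rc.gen, cv := vch.1,
    vch := vch.2, gl := gl, cV := bv.2.2, psi := psi, cyc := cyc, inB := inb }

end Cfsg.Agent.H45.SOnOA
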