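import Cfsg.Agent.H1.SpD

/-!
The `SL₂` lemma: a Sylow subgroup acting like the lower unitriangular matrices on `K²`.
-/

set_option autoImplicit false
set_option linter.unusedSectionVars false

namespace Cfsg.Agent.H45.Spr

open Subgroup Cfsg Cfsg.Agent.H83 Cfsg.Agent.H97 Cfsg.Agent.H1.SP
open scoped commutatorElement

universe u

section abstract

variable {Γ V K : Type*} [Group Γ] [Finite Γ] [AddCommGroup V] [DistribMulAction Γ V]
  {p : ℕ} [Fact p.Prime]

/-- An element moving `a` by a vector of `W` fixes `a`, if a Sylow subgroup fixes `a` and `W`. -/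
theorem fix_of_syl (hV : ∀ v : V, p ^ 2 • v = 0) {X : Subgroup Γ} (hX : IsSylowIn p X ⊤)
    (W : AddSubgroup V) (a : V) (h1 : ∀ s ∈ X, ∀ w ∈ W, s • w = w) (h2 : ∀ s ∈ X, s • a = a)
    {g : Γ} (h3 : ∀ w ∈ W, g • w = w) (h4 : g • a - a ∈ W) : g • a = a := by
  let C : Subgroup Γ :=
    { carrier := {h | (∀ w ∈ W, h • w = w) ∧ h • a - a ∈ W}
      one_mem' := ⟨fun w _ => one_smul _ w, by rw [one_smul, sub_self]; exact zero_mem W⟩
      mul_mem' := by
        rintro h h' ⟨e1, e2⟩ ⟨e3, e4⟩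
        refine ⟨fun w hw => by rw [mul_smul, e3 w hw, e1 w hw], ?_⟩
        have := e1 _ e4
        rw [smul_sub] at this
        convert add_mem e4 e2 using 1
        rw [mul_smul, ← this]
        abel
      inv_mem' := by
        rintro h ⟨e1, e2⟩
        have e3 : ∀ w ∈ W, h⁻¹ • w = w := fun w hw => by rw [inv_smul_eq_iff, e1 w hw]
        refine ⟨e3, ?_⟩
        have := e3 _ e2
        rw [smul_sub, inv_smul_smul] at this
        convert neg_mem e2 using 1
        rw [← this]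
        abel }
  let φ : C →* Multiplicative V := MonoidHom.mk' (fun h => .ofAdd ((h : Γ) • a - a)) fun h h' => by
    have := h.2.1 _ h'.2.2
    rw [smul_sub] at this
    rw [← ofAdd_add, coe_mul, mul_smul, ← this]
    congr 1
    abel
  have hB : IsPGroup p (Multiplicative V) := fun v => ⟨2, hV v.toAdd⟩
  have := hom_triv hX (C := C) le_top
    (fun s hs => ⟨h1 s hs, by rw [h2 s hs, sub_self]; exact zero_mem W⟩) hB φ
    (fun s hs => by
      show Multiplicative.ofAdd ((s : Γ) • a - a) = 1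
      rw [h2 s hs, sub_self]
      rfl) ⟨g, h3, h4⟩
  exact sub_eq_zero.1 this

variable [Field K] [Finite K] [CharP K p]

/-- the abstract hypotheses -/
structure Hyp (p : ℕ) (X : Subgroup Γ) (τ : V →+ K) (z : K →+ V) (x : K → Γ) : Prop where
  syl : IsSylowIn p X ⊤
  zinj : ∀ k, z k = 0 → k = 0
  ker : ∀ a, τ a = 0 ↔ ∃ k, z k = a
  xm : ∀ c, x c ∈ X
  act : ∀ c a, x c • a = a + z (c * τ a)
  fix : ∀ s ∈ X, ∀ k, s • z k = z k

variable {X : Subgroup Γ} {τ : V →+ K} {z : K →+ V} {x : K → Γ} (h : Hyp p X τ z x)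
include h

theorem Hyp.tz (k : K) : τ (z k) = 0 := (h.ker _).2 ⟨k, rfl⟩

theorem Hyp.pv (v : V) : p ^ 2 • v = 0 := by
  have h0 : ∀ k : K, p • k = 0 := fun k => by rw [nsmul_eq_mul, CharP.cast_eq_zero, zero_mul]
  obtain ⟨k, hk⟩ := (h.ker (p • v)).1 (by rw [map_nsmul, h0])
  rw [sq, mul_smul, ← hk, ← map_nsmul, h0, map_zero]

/-- Two conjugates of the fixed line which meet are equal. -/
theorem Hyp.line {g : Γ} {k0 : K} (h0 : k0 ≠ 0) (h1 : τ (g • z k0) = 0) (k : K) :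
    τ (g • z k) = 0 := by
  by_contra h2
  obtain ⟨k1, hk1⟩ := (h.ker _).1 h1
  have hX' : ∀ s ∈ cj g X, ∀ k, s • g • z k = g • z k := by
    rintro _ ⟨s, hs, rfl⟩ k
    show (g * s * g⁻¹) • g • z k = _
    rw [mul_smul, mul_smul, inv_smul_smul, h.fix s hs]
  have h3 : x (k1 / τ (g • z k)) • g • z k = g • z k + z k1 := by
    rw [h.act, div_mul_cancel₀ _ h2]
  have h4 := fix_of_syl h.pv (h.syl.cj_of_mem (mem_top g)) (AddSubgroup.zmultiples (z k1))
    (g • z k) (by
      rintro s hs _ ⟨n, rfl⟩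
      simp only
      rw [hk1, smul_comm, hX' s hs]) (fun s hs => hX' s hs k) (g := x (k1 / τ (g • z k))) (by
      rintro _ ⟨n, rfl⟩
      simp only
      rw [smul_comm, h.fix _ (h.xm _)])
    (by rw [h3, add_sub_cancel_left]; exact AddSubgroup.mem_zmultiples _)
  rw [h3, add_eq_left, hk1, smul_eq_zero_iff_eq] at h4
  exact h0 (h.zinj _ h4)

omit h in
/-- the action as a matrix -/
def MtA (Γ0 : Subgroup Γ) (σ z : K →+ V) (a b c d : K) : Prop :=
  ∃ α ∈ Γ0, ∀ t k, α • (σ t + z k) = σ (a * t + b * k) + z (c * t + d * k)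

omit h in
theorem MtA.mul {Γ0 : Subgroup Γ} {σ : K →+ V} {a b c d a' b' c' d' a'' b'' c'' d'' : K}
    (h1 : MtA Γ0 σ z a b c d) (h2 : MtA Γ0 σ z a' b' c' d') (e1 : a'' = a * a' + b * c')
    (e2 : b'' = a * b' + b * d') (e3 : c'' = c * a' + d * c') (e4 : d'' = c * b' + d * d') :
    MtA Γ0 σ z a'' b'' c'' d'' := by
  obtain ⟨α, hα, e⟩ := h1
  obtain ⟨β, hβ, e'⟩ := h2
  refine ⟨α * β, mul_mem hα hβ, fun t k => ?_⟩
  rw [mul_smul, e', e, e1, e2, e3, e4]
  congr 2 <;> ring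

theorem Hyp.main (Γ0 : Subgroup Γ) (h0 : ∀ g c, g * x c * g⁻¹ ∈ Γ0) {γ0 : Γ} {k0 : K}
    (hk0 : τ (γ0 • z k0) ≠ 0) : ∃ σ : K →+ V, (∀ t, τ (σ t) = t) ∧
    (∀ a b c d : K, a * d - b * c = 1 → MtA Γ0 σ z a b c d) ∧
    ∀ γ : Γ, (∀ k, τ (γ • z k) = 0) ∨ ∃ c, ∀ k, ∃ t, σ t + z (c * t) = γ • z k := by
  let f0 : K →+ K := τ.comp ((DistribSMul.toAddMonoidHom V γ0).comp z)
  have hf0 : ∀ k, τ (γ0 • z k) = 0 → k = 0 := fun k hk => by
    by_contra h1
    exact hk0 (h.line h1 hk k0)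
  have hb : Function.Bijective f0 :=
    Finite.injective_iff_bijective.1 ((injective_iff_map_eq_zero f0).2 hf0)
  let e : K ≃+ K := AddEquiv.ofBijective f0 hb
  let σ : K →+ V := ((DistribSMul.toAddMonoidHom V γ0).comp z).comp e.symm.toAddMonoidHom
  have hσ : ∀ k, σ (e k) = γ0 • z k := fun k => by
    show γ0 • z (e.symm (e k)) = _
    rw [e.symm_apply_apply]
  have hτσ : ∀ t, τ (σ t) = t := fun t => e.apply_symm_apply t
  have hσ' : ∀ t, γ0⁻¹ • σ t = z (e.symm t) := fun t => inv_smul_smul γ0 _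
  clear_value σ
  have hxσ : ∀ c t k, x c • (σ t + z k) = σ t + z (c * t + k) := fun c t k => by
    rw [h.act, map_add, hτσ, h.tz, add_zero, map_add]
    abel
  have cls : ∀ γ : Γ, (∀ k, τ (γ • z k) = 0) ∨ ∃ c, ∀ k, ∃ t, σ t + z (c * t) = γ • z k := by
    intro γ
    refine or_iff_not_imp_left.2 fun h1 => ?_
    push Not at h1
    obtain ⟨k1, h1⟩ := h1
    obtain ⟨k2, h2⟩ := (h.ker (γ • z k1 - σ (τ (γ • z k1)))).1 (by rw [map_sub, hτσ, sub_self])
    refine ⟨k2 / τ (γ • z k1), fun k => ?_⟩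
    have h3 := hxσ (k2 / τ (γ • z k1)) (τ (γ • z k1)) 0
    rw [map_zero, add_zero, add_zero, div_mul_cancel₀ _ h1, h2, add_sub_cancel] at h3
    have h4 := h.line (g := γ0⁻¹ * (x (k2 / τ (γ • z k1)))⁻¹ * γ) (k0 := k1)
      (by rintro rfl; simp at h1)
      (by rw [mul_smul, mul_smul, inv_smul_eq_iff.2 h3.symm, hσ', h.tz]) k
    obtain ⟨k3, h5⟩ := (h.ker _).1 h4
    rw [mul_smul, mul_smul, eq_inv_smul_iff, eq_inv_smul_iff, ← hσ] at h5
    refine ⟨e k3, ?_⟩
    have h6 := hxσ (k2 / τ (γ • z k1)) (e k3) 0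
    rw [map_zero, add_zero, add_zero] at h6
    rw [← h5, h6]
  have low : ∀ c, MtA Γ0 σ z 1 0 c 1 := fun c =>
    ⟨x c, by simpa using h0 1 c, fun t k => by rw [hxσ]; simp⟩
  have hy : ∀ c v, (γ0 * x c * γ0⁻¹) • v = v + σ (e (c * τ (γ0⁻¹ • v))) := fun c v => by
    rw [mul_smul, mul_smul, h.act, smul_add, smul_inv_smul, hσ]
  have hg1 : τ (γ0⁻¹ • z 1) ≠ 0 := fun e1 => by
    obtain ⟨k, hk⟩ := (h.ker _).1 e1
    rw [eq_inv_smul_iff] at hk
    have h2 := hf0 k (by rw [hk, h.tz])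
    rw [h2, map_zero, smul_zero] at hk
    exact one_ne_zero (h.zinj 1 hk.symm)
  have hs : ∀ c k, e (c * τ (γ0⁻¹ • z k)) = e (c * τ (γ0⁻¹ • z 1)) * k := by
    intro c
    rcases cls (γ0 * x c * γ0⁻¹) with h1 | ⟨c', h1⟩
    · have h2 : ∀ k, e (c * τ (γ0⁻¹ • z k)) = 0 := fun k => by
        have := h1 k
        rwa [hy, map_add, h.tz, hτσ, zero_add] at this
      intro k
      rw [h2, h2, zero_mul]
    · have h2 : ∀ k, c' * e (c * τ (γ0⁻¹ • z k)) = k := fun k => by
        obtain ⟨t, ht⟩ := h1 k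
        rw [hy] at ht
        have h3 := congrArg τ ht
        rw [map_add, map_add, h.tz, h.tz, hτσ, hτσ, add_zero, zero_add] at h3
        rw [← h3, add_comm, add_left_inj, ← sub_eq_zero, ← map_sub] at ht
        rw [← h3]
        exact sub_eq_zero.1 (h.zinj _ ht)
      intro k
      linear_combination (e (c * τ (γ0⁻¹ • z 1))) * h2 k - (e (c * τ (γ0⁻¹ • z k))) * h2 1
  have up : ∀ s, MtA Γ0 σ z 1 s 0 1 := fun s => by
    refine ⟨_, h0 γ0 (e.symm s / τ (γ0⁻¹ • z 1)), fun t k => ?_⟩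
    rw [hy, smul_add, hσ', map_add τ, h.tz, zero_add, hs, div_mul_cancel₀ _ hg1,
      e.apply_symm_apply, one_mul, zero_mul, zero_add, one_mul, map_add]
    abel
  have gen : ∀ a b c d : K, c ≠ 0 → a * d - b * c = 1 → MtA Γ0 σ z a b c d := by
    intro a b c d hc e1
    refine (up ((a - 1) / c)).mul ((low c).mul (up ((d - 1) / c)) rfl rfl rfl rfl) ?_ ?_ ?_ ?_
    · field_simp
      ring
    · field_simp
      linear_combination (-1) * e1
    · ring
    · field_simp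
      ring
  refine ⟨σ, hτσ, fun a b c d e1 => ?_, cls⟩
  by_cases hc : c = 0
  · subst hc
    have ha : a ≠ 0 := by
      rintro rfl
      simp at e1
    exact (low (-1)).mul (gen a b a (b + d) ha (by linear_combination e1)) (by ring) (by ring)
      (by ring) (by ring)
  · exact gen a b c d hc e1

end abstract

section quot

variable {G : Type u} [Group G] {P N : Subgroup G} {Γ : Subgroup (MulAut P)}

/-- The quotient `P / N` as a module for `Γ`. -/
theorem exists_quot (hle : N ≤ P) (hc : ∀ a ∈ P, ∀ b ∈ P, ⁅a, b⁆ ∈ N) (hI : Iv Γ N) :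
    ∃ (V : Type u) (_ : AddCommGroup V) (_ : DistribMulAction Γ V) (π : G → V),
      (∀ a ∈ P, ∀ b ∈ P, π (a * b) = π a + π b) ∧ (∀ a ∈ P, ∀ b ∈ P, π a = π b ↔ Cg N a b) ∧
      (∀ v, ∃ a ∈ P, π a = v) ∧ ∀ α : Γ, ∀ a ∈ P, α • π a = π (ext (α : MulAut P) a) := by
  classical
  haveI hN : (N.subgroupOf P).Normal := ⟨fun n hn g => by
    have := mul_mem (hc g g.2 n n.2) (mem_subgroupOf.1 hn)
    rw [mem_subgroupOf]
    simpa [commutatorElement_def] using this⟩
  let Q := P ⧸ N.subgroupOf P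
  letI : CommGroup Q :=
    { (inferInstance : Group Q) with
      mul_comm := fun a b => by
        obtain ⟨a, rfl⟩ := QuotientGroup.mk_surjective a
        obtain ⟨b, rfl⟩ := QuotientGroup.mk_surjective b
        rw [← QuotientGroup.mk_mul, ← QuotientGroup.mk_mul, QuotientGroup.eq, mem_subgroupOf]
        have := hc _ (inv_mem b.2) _ (inv_mem a.2)
        simpa [commutatorElement_def, mul_assoc] using this }
  have hm : ∀ α : Γ, N.subgroupOf P ≤ (N.subgroupOf P).comap (α : MulAut P).toMonoidHom := by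
    intro α n hn
    have := hI α α.2 n hn
    rw [ext_coe] at this
    exact this
  let m : Γ → Q →* Q := fun α => QuotientGroup.map _ _ (α : MulAut P).toMonoidHom (hm α)
  letI : DistribMulAction Γ (Additive Q) :=
    { smul := fun α v => .ofMul (m α v.toMul)
      one_smul := fun v => by
        obtain ⟨a, rfl⟩ := QuotientGroup.mk_surjective (s := N.subgroupOf P) v
        rfl
      mul_smul := fun α β v => by
        obtain ⟨a, rfl⟩ := QuotientGroup.mk_surjective (s := N.subgroupOf P) v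
        rfl
      smul_zero := fun α => map_one (m α)
      smul_add := fun α v w => map_mul (m α) v.toMul w.toMul }
  refine ⟨Additive Q, inferInstance, inferInstance,
    fun a => if h : a ∈ P then .ofMul (QuotientGroup.mk ⟨a, h⟩) else 0, fun a ha b hb => ?_,
    fun a ha b hb => ?_, fun v => ?_, fun α a ha => ?_⟩
  · simp only [dif_pos ha, dif_pos hb, dif_pos (mul_mem ha hb)]
    rfl
  · simp only [dif_pos ha, dif_pos hb]
    exact (QuotientGroup.eq (s := N.subgroupOf P)).trans mem_subgroupOf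
  · obtain ⟨a, rfl⟩ := QuotientGroup.mk_surjective (s := N.subgroupOf P) v
    exact ⟨a, a.2, by simp only [dif_pos a.2]; rfl⟩
  · simp only [dif_pos ha, ext_apply _ ha, dif_pos ((α : MulAut P) ⟨a, ha⟩).2]
    rfl

end quot

/-- **SPR** -/
theorem sprStmt : SprStmt.{u} := by
  intro G K _ _ _ _ p _ _ P N Γ τ z x h hX hI ⟨γ0, hγ0, k0, hk0⟩
  obtain ⟨V, _, _, π, hmul, heq, hsurj, hact⟩ := exists_quot h.le h.comm hI
  choose s hs hπs using hsurj
  have hz0 : z 0 ∈ N := by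
    have := h.zmul 0 0
    simpa [Cg] using this
  have hτ : ∀ a ∈ P, ∀ b ∈ P, π a = π b → τ a = τ b := by
    intro a ha b hb e
    have h1 : a⁻¹ * b ∈ N := (heq a ha b hb).1 e
    have h2 := h.tmul a ha _ (h.le h1)
    rw [mul_inv_cancel_left, (h.ker _ (h.le h1)).2 ⟨0, mul_mem (inv_mem hz0) h1⟩, add_zero] at h2
    exact h2.symm
  let τ' : V →+ K := AddMonoidHom.mk' (fun v => τ (s v)) fun v w => by
    rw [← h.tmul _ (hs v) _ (hs w)]
    exact hτ _ (hs _) _ (mul_mem (hs v) (hs w)) (by rw [hmul _ (hs v) _ (hs w), hπs, hπs, hπs])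
  have hτ' : ∀ a ∈ P, τ' (π a) = τ a := fun a ha => hτ _ (hs _) a ha (hπs _)
  let z' : K →+ V := AddMonoidHom.mk' (fun k => π (z k)) fun k l => by
    rw [← hmul _ (h.zmem k) _ (h.zmem l)]
    exact (heq _ (h.zmem _) _ (mul_mem (h.zmem k) (h.zmem l))).2 (h.zmul k l)
  have hz' : ∀ k, z' k = π (z k) := fun _ => rfl
  let x' : K → Γ := fun c => ⟨conjAut P (h.xn c), hX.le (conjAut_mem_autInducedBy (mem_top _) _)⟩
  obtain ⟨S, hS⟩ := hX.exists_sylow
  have hyp : Hyp p (S : Subgroup Γ) τ' z' x' := by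
    refine ⟨isSylowIn_top S, fun k hk => h.zinj k ?_, fun v => ?_, fun c => ?_, fun c v => ?_,
      fun g hg k => ?_⟩
    · have h1 := (heq _ (h.zmem 0) _ (h.zmem k)).1 ((map_zero z').trans hk.symm)
      simpa using mul_mem hz0 h1
    · refine (h.ker _ (hs v)).trans (exists_congr fun k => ?_)
      rw [← heq _ (h.zmem k) _ (hs v), hπs, hz']
    · rw [hS]
      exact conjAut_mem_autInducedBy (mem_top _) (h.xn c)
    · have h1 := (heq _ (mul_mem (hs v) (h.zmem _)) _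
        ((mem_normalizer_iff.1 (h.xn c) _).1 (hs v))).2 (h.act c _ (hs v))
      rw [hmul _ (hs v) _ (h.zmem _), hπs] at h1
      conv_lhs => rw [← hπs v, hact _ _ (hs v)]
      exact (congrArg π (ext_conjAut (h.xn c) (hs v))).trans h1.symm
    · rw [hS] at hg
      obtain ⟨g', -, e⟩ := mem_autInducedBy_iff.1 (mem_subgroupOf.1 hg)
      have hn := mem_normalizer_of_ext e
      rw [hz', hact _ _ (h.zmem k), e _ (h.zmem k)]
      exact ((heq _ (h.zmem k) _ ((mem_normalizer_iff.1 hn _).1 (h.zmem k))).2 (h.fix g' hn k)).symm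
  let Γ0 : Subgroup Γ :=
    { carrier := {α | ∀ n ∈ N, ext (α : MulAut P) n = n}
      one_mem' := fun n _ => ext_one n
      mul_mem' := fun {α β} hα hβ n hn => by rw [coe_mul, ext_mul, hβ n hn, hα n hn]
      inv_mem' := fun {α} hα n hn => by
        conv_lhs => rw [← hα n hn]
        exact ext_inv_ext _ n }
  obtain ⟨σ, h1, h2, h3⟩ := hyp.main Γ0 (fun g c n hn => by
      have h1 := hI _ (inv_mem g.2) n hn
      rw [coe_mul, coe_mul, ext_mul, ext_mul, coe_inv, ext_conjAut (h.xn c) (h.le h1),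
        h.cen _ (h.xn c) _ h1, mul_inv_cancel_right, ext_ext_inv])
    (γ0 := ⟨γ0, hγ0⟩) (k0 := k0)
    (by rwa [hz', hact _ _ (h.zmem k0), hτ' _ (ext_mem _ (h.zmem k0))])
  have hp : ∀ t k, π (s (σ t) * z k) = σ t + z' k := fun t k => by
    rw [hmul _ (hs _) _ (h.zmem k), hπs, hz']
  refine ⟨fun t => s (σ t), fun t => hs _, fun t t' => ?_, h1, fun a b c d e => ?_, fun γ hγ => ?_⟩
  · rw [← heq _ (hs _) _ (mul_mem (hs _) (hs _)), hmul _ (hs _) _ (hs _), hπs, hπs, hπs, map_add]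
  · obtain ⟨α, hα, e'⟩ := h2 a b c d e
    refine ⟨α, α.2, hα, fun t k => ?_⟩
    have hm := mul_mem (hs (σ t)) (h.zmem k)
    rw [← heq _ (mul_mem (hs _) (h.zmem _)) _ (ext_mem _ hm), ← hact _ _ hm, hp, hp, e']
  · refine (h3 ⟨γ, hγ⟩).imp (fun h4 k => ?_) fun ⟨c, h4⟩ => ⟨c, fun k => (h4 k).imp fun t ht => ?_⟩
    · have := h4 k
      rwa [hz', hact _ _ (h.zmem k), hτ' _ (ext_mem _ (h.zmem k))] at this
    · rw [← heq _ (mul_mem (hs _) (h.zmem _)) _ (ext_mem _ (h.zmem k)), hp, ht, hz',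
        hact _ _ (h.zmem k)]

end Cfsg.Agent.H45.Spr
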