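import Cfsg.Agent.H45.Transport
import Cfsg.Agent.H45.Cert23

/-! Uniqueness of `S(4,7,23)`. -/

set_option autoImplicit false

namespace Cfsg.Agent.H45

theorem good23 {B : Set (Finset (Fin 23))} (hB : IsSteinerSystem 4 7 B) : par23.Good B := by
  refine ⟨hB, ?_, by simp [par23]⟩
  show ∀ b ∈ B, ∀ c ∈ B, b ≠ c → Nat.testBit 10 (b ∩ c).card = true
  intro b hb c hc hne
  have := inter23 (Fintype.card_fin 23) hB hb hc hne
  rcases this with h | h <;> rw [h] <;> decide

theorem exists_std23 {α : Type*} [Fintype α] [DecidableEq α] (hα : Fintype.card α = 23)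
    {B : Set (Finset α)} (hB : IsSteinerSystem 4 7 B) (x : Fin 0 → α)
    (hx : Function.Injective x) :
    ∃ e : α ≃ Fin 23, (∀ i, e (x i) = Fin.castLE (by norm_num) i) ∧ mapB e B = std23 :=
  exists_std hα (by norm_num) x hx fun e _ => unique23 (good23 (steiner_mapB hB e))

theorem exists_std23' {α : Type*} [Fintype α] [DecidableEq α] (hα : Fintype.card α = 23)
    {B : Set (Finset α)} (hB : IsSteinerSystem 4 7 B) :
    ∃ e : α ≃ Fin 23, mapB e B = std23 := by
  obtain ⟨e, -, he⟩ := exists_std23 hα hB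
    (fun i => (Fintype.equivFinOfCardEq hα).symm (Fin.castLE (by norm_num) i))
    ((Equiv.injective _).comp (Fin.castLE_injective (by norm_num)))
  exact ⟨e, he⟩

theorem iso23 {α β : Type*} [Fintype α] [DecidableEq α] [Fintype β] [DecidableEq β]
    (hα : Fintype.card α = 23) (hβ : Fintype.card β = 23) {B : Set (Finset α)}
    {B' : Set (Finset β)} (hB : IsSteinerSystem 4 7 B) (hB' : IsSteinerSystem 4 7 B') :
    SetSystemIso B B' := by
  obtain ⟨e, he⟩ := exists_std23' hα hB
  obtain ⟨e', he'⟩ := exists_std23' hβ hB'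
  exact setSystemIso_of_mapB e e' (he.trans he'.symm)

end Cfsg.Agent.H45
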