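import Cfsg.Agent.H45.Aut
import Cfsg.Agent.H45.U24
import Cfsg.Agent.H45.U23
import Cfsg.Agent.H45.U22
import Cfsg.Agent.H42.Mathieu
import Cfsg.Prelude.Def_Sporadic

/-! The automorphism groups of the large Witt designs inside `M24`. -/

set_option autoImplicit false
set_option linter.unusedSectionVars false

namespace Cfsg.Agent.H45

open Finset MulAction
open scoped Pointwise

variable {α : Type*} [Fintype α] [DecidableEq α]

theorem golayLike_codeSets : GolayLike H42.codeSets :=
  ⟨H42.card_pt, fun _ ha _ hb => H42.symmDiff_mem_codeSets ha hb, H42.codeSets_ncard,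
    fun _ ha _ hb => Nat.even_iff.1 (H42.even_card_inter ha hb), fun a ha hne => by
      have := H42.card_codeSets ha
      have h2 : a.card ≠ 0 := fun h => hne (Finset.card_eq_zero.1 h)
      omega⟩

theorem card_notMem {β : Type*} [Fintype β] [DecidableEq β] (X : Finset β) :
    Fintype.card {p // p ∉ X} = Fintype.card β - X.card := by
  rw [Fintype.card_subtype_compl, Fintype.card_coe]

theorem exists_isDer23 (hα : Fintype.card α = 23) {B : Set (Finset α)}
    (hB : IsSteinerSystem 4 7 B) (p : GolayPt) : ∃ j, IsDer B octads {p} j :=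
  isDer_of_iso (iso23 hα (by rw [card_notMem, H42.card_pt]; rfl) hB
    (steiner_der {p} H42.octads_steiner))

theorem exists_isDer22 (hα : Fintype.card α = 22) {B : Set (Finset α)}
    (hB : IsSteinerSystem 3 6 B) {p q : GolayPt} (hpq : p ≠ q) : ∃ j, IsDer B octads {p, q} j :=
  isDer_of_iso (iso22 hα (by rw [card_notMem, H42.card_pt, Finset.card_pair hpq]) hB
    (steiner_der {p, q} (by rw [Finset.card_pair hpq]; exact H42.octads_steiner)))

theorem IsDer.exists_mulEquiv {B : Set (Finset α)} {X : Finset GolayPt} {j : α → GolayPt}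
    (h : IsDer B octads X j) (K : Subgroup M24) (hK : ∀ g ∈ K, ∀ p, g • p ∈ X ↔ p ∈ X)
    (hinj : ∀ g ∈ K, (∀ a, g • j a = j a) → g = 1)
    (hsurj : ∀ σ ∈ setSystemAut B, ∃ g ∈ K, ∀ a, g • j a = j (σ a)) :
    ∃ φ : K ≃* setSystemAut B, ∀ (g : K) (a : α), j ((φ g).1 a) = g.1 • j a := by
  let f : K →* Equiv.Perm GolayPt := M24.subtype.comp K.subtype
  have hf : ∀ g p, f g p ∈ X ↔ p ∈ X := fun g p => hK g.1 g.2 p
  have hm : ∀ g, h.restr f hf g ∈ setSystemAut B := fun g =>
    h.restr_mem f hf g (H42.M24_eq_octad_aut ▸ g.1.2)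
  let ψ : K →* setSystemAut B := (h.restr f hf).codRestrict _ hm
  have hψ : ∀ (g : K) (a : α), j ((ψ g).1 a) = g.1 • j a := fun g a => h.j_restr f hf g a
  refine ⟨MulEquiv.ofBijective ψ ⟨?_, ?_⟩, hψ⟩
  · rw [injective_iff_map_eq_one]
    intro g hg
    refine Subtype.ext (hinj g.1 g.2 fun a => ?_)
    rw [← hψ, hg]
    rfl
  · intro σ
    obtain ⟨g, hg, h2⟩ := hsurj σ.1 σ.2
    refine ⟨⟨g, hg⟩, Subtype.ext (Equiv.ext fun a => h.inj ?_)⟩
    rw [hψ, h2]

theorem eq_one_of_fix_compl_pair {p q : GolayPt} (hpq : p ≠ q) {g : M24}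
    (h : ∀ x, x ≠ p → x ≠ q → g • x = x) : g = 1 := by
  have key : ∀ {p q : GolayPt}, p ≠ q → (∀ x, x ≠ p → x ≠ q → g • x = x) → g • p = p := by
    intro p q hpq h
    obtain ⟨o, ho, ho8, hp, hq⟩ := golayLike_codeSets.exists_octad_sep hpq
    have h1 := H42.smul_octad_eq_of_fix (g := g) (o := o) (F := o.erase p) ⟨ho, ho8⟩
      (by rw [Finset.inter_eq_right.2 (Finset.erase_subset _ _), Finset.card_erase_of_mem hp, ho8]
          norm_num)
      (fun x hx => h x (Finset.ne_of_mem_erase hx)
        (fun e => hq (e ▸ Finset.mem_of_mem_erase hx)))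
    have h2 : g • p ∈ o := h1 ▸ Finset.smul_mem_smul_finset hp
    by_contra hne
    have h3 := h _ hne (fun e => hq (e ▸ h2))
    exact hne (smul_left_cancel g h3)
  refine Subtype.ext (Equiv.ext fun x => ?_)
  show g • x = x
  by_cases h1 : x = p
  · rw [h1]; exact key hpq h
  by_cases h2 : x = q
  · rw [h2]; exact key hpq.symm fun x a b => h x b a
  exact h x h1 h2

theorem IsDer.exists_mulEquiv_one {B : Set (Finset α)} {p : GolayPt} {j : α → GolayPt}
    (h : IsDer B octads {p} j) :
    ∃ φ : stabilizer M24 p ≃* setSystemAut B,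
      ∀ (g : stabilizer M24 p) (a : α), j ((φ g).1 a) = g.1 • j a := by
  apply h.exists_mulEquiv
  · intro g hg x
    rw [Finset.mem_singleton, Finset.mem_singleton]
    conv_lhs => rw [← mem_stabilizer_iff.1 hg]
    exact smul_left_cancel_iff g
  · intro g hg h2
    refine Subtype.ext (Equiv.ext fun x => ?_)
    show g • x = x
    by_cases h1 : x = p
    · rw [h1]; exact hg
    · obtain ⟨a, rfl⟩ := h.surj x (by simpa using h1)
      exact h2 a
  · intro σ hσ
    obtain ⟨g, h1, h2, h3⟩ := h.exists_extend hσ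
    have h4 := golayLike_codeSets.image_mem_of_one (p := p) (g := g)
      (fun o ho ho8 hp => (h3 o ⟨ho, ho8⟩ (by simpa using hp)).1)
    exact ⟨⟨g, (H42.mem_M24_iff g).2 h4⟩, h2 p (by simp), h1⟩

theorem IsDer.exists_mulEquiv_two {B : Set (Finset α)} {p q : GolayPt} (hpq : p ≠ q)
    {j : α → GolayPt} (h : IsDer B octads {p, q} j) :
    ∃ φ : stabilizer M24 ({p, q} : Finset GolayPt) ≃* setSystemAut B,
      ∀ (g : stabilizer M24 ({p, q} : Finset GolayPt)) (a : α), j ((φ g).1 a) = g.1 • j a := by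
  apply h.exists_mulEquiv
  · intro g hg x
    conv_lhs => rw [← mem_stabilizer_iff.1 hg]
    exact Finset.smul_mem_smul_finset_iff g
  · intro g hg h2
    apply eq_one_of_fix_compl_pair hpq
    intro x h3 h4
    obtain ⟨a, rfl⟩ := h.surj x (by simp [h3, h4])
    exact h2 a
  · intro σ hσ
    obtain ⟨g, h1, h2, h3⟩ := h.exists_extend hσ
    obtain ⟨g', h1', h2', h3'⟩ := h.exists_extend ((setSystemAut B).inv_mem hσ)
    have hg' : g' = g.symm := by
      refine Equiv.ext fun x => ?_
      rw [Equiv.eq_symm_apply]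
      by_cases hx : x ∈ ({p, q} : Finset GolayPt)
      · rw [h2' x hx, h2 x hx]
      · obtain ⟨a, rfl⟩ := h.surj x hx
        rw [h1', h1]
        simp
    have hp := h2 p (by simp)
    have hq := h2 q (by simp)
    rcases golayLike_codeSets.image_mem_of_two hpq hp hq
      (fun o ho ho8 hp hq => (h3 o ⟨ho, ho8⟩ (by simp [Finset.insert_subset_iff, hp, hq])).1)
      (fun o ho ho8 hp hq => hg' ▸
        (h3' o ⟨ho, ho8⟩ (by simp [Finset.insert_subset_iff, hp, hq])).1) with h4 | h4
    · refine ⟨⟨g, (H42.mem_M24_iff g).2 h4⟩, ?_, h1⟩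
      rw [mem_stabilizer_iff]
      show Finset.image g {p, q} = {p, q}
      simp [hp, hq]
    · refine ⟨⟨_, (H42.mem_M24_iff _).2 h4⟩, ?_, fun a => ?_⟩
      · rw [mem_stabilizer_iff]
        show Finset.image (g.trans (Equiv.swap p q)) {p, q} = {p, q}
        simp [hp, hq, Finset.pair_comm]
      · show Equiv.swap p q (g (j a)) = _
        rw [h1]
        have := h.notMem (σ a)
        simp only [Finset.mem_insert, Finset.mem_singleton, not_or] at this
        exact Equiv.swap_apply_of_ne_of_ne this.1 this.2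

theorem card_stab_pair {p q : GolayPt} (hpq : p ≠ q) :
    Nat.card (stabilizer M24 ({p, q} : Finset GolayPt)) = 887040 := by
  apply H42.card_stabilizer_eq _ (n := 276) (by norm_num) _ (by rw [H42.card_M24])
  have : orbit M24 ({p, q} : Finset GolayPt) =
      ((Finset.univ : Finset GolayPt).powersetCard 2 : Set (Finset GolayPt)) := by
    ext s
    simp only [Finset.mem_coe, Finset.mem_powersetCard, Finset.subset_univ, true_and]
    constructor
    · rintro ⟨g, rfl⟩
      show (g • ({p, q} : Finset GolayPt)).card = 2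
      rw [Finset.card_smul_finset, Finset.card_pair hpq]
    · intro hs
      exact H42.exists_smul_finset (by rw [hs, Finset.card_pair hpq])
        (by rw [Finset.card_pair hpq]; norm_num)
  rw [this, Set.ncard_coe_finset, Finset.card_powersetCard, Finset.card_univ, H42.card_pt]
  rfl

theorem stab_two_le {p q : GolayPt} : stabilizer M24 p ⊓ stabilizer M24 q ≤
    stabilizer M24 ({p, q} : Finset GolayPt) := by
  intro g hg
  rw [mem_stabilizer_iff, Finset.smul_finset_insert, Finset.smul_finset_singleton, hg.1, hg.2]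

/-- The automorphism group of `S(3,6,22)` and its simple subgroup of index two. -/
theorem aut22 (hα : Fintype.card α = 22) {B : Set (Finset α)} (hB : IsSteinerSystem 3 6 B) :
    Nat.card (setSystemAut B) = 887040 ∧ ∃ H : Subgroup (setSystemAut B), H.index = 2 ∧
      IsM22 H ∧ ∀ x y : Fin 3 → α, Function.Injective x → Function.Injective y →
        ∃ g ∈ H, ∀ i, g.1 (x i) = y i := by
  have hpq := H42.pt23_ne_pt0
  set p := H42.pt 23
  set q := H42.pt 0
  obtain ⟨j, h⟩ := exists_isDer22 hα hB hpq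
  obtain ⟨φ, hφ⟩ := h.exists_mulEquiv_two hpq
  have h1 : Nat.card (setSystemAut B) = 887040 := by
    rw [← Nat.card_congr φ.toEquiv, card_stab_pair hpq]
  let K := (stabilizer M24 p ⊓ stabilizer M24 q).subgroupOf
    (stabilizer M24 ({p, q} : Finset GolayPt))
  have e : ↥(stabilizer M24 p ⊓ stabilizer M24 q) ≃* K.map φ.toMonoidHom :=
    (Subgroup.subgroupOfEquivOfLe stab_two_le).symm.trans (φ.subgroupMap K)
  have h2 : Nat.card (K.map φ.toMonoidHom) = 443520 := by
    rw [← Nat.card_congr e.toEquiv, H42.card_stab_two hpq]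
  refine ⟨h1, K.map φ.toMonoidHom, ?_, ⟨?_, h2⟩, fun x y hx hy => ?_⟩
  · have := (K.map φ.toMonoidHom).index_mul_card
    rw [h1, h2] at this
    omega
  · have := H42.stab_two_simple hpq
    exact e.symm.isSimpleGroup
  · have hn : ∀ a, p ≠ j a ∧ q ≠ j a := fun a => by
      have := h.notMem a
      simp only [Finset.mem_insert, Finset.mem_singleton, not_or] at this
      exact ⟨Ne.symm this.1, Ne.symm this.2⟩
    have hi : ∀ x : Fin 3 → α, Function.Injective x →
        Function.Injective ![p, q, j (x 0), j (x 1), j (x 2)] := fun x hx =>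
      H42.injective_five hpq (hn _).1 (hn _).1 (hn _).1 (hn _).2 (hn _).2 (hn _).2
        ((h.inj.comp hx).ne (by decide)) ((h.inj.comp hx).ne (by decide))
        ((h.inj.comp hx).ne (by decide))
    obtain ⟨g, hg⟩ := H42.exists_smul_fun (k := 5) le_rfl _ _ (hi x hx) (hi y hy)
    have hgK : g ∈ stabilizer M24 p ⊓ stabilizer M24 q := ⟨hg 0, hg 1⟩
    refine ⟨φ ⟨g, stab_two_le hgK⟩, ⟨_, hgK, rfl⟩, fun i => h.inj ?_⟩
    rw [hφ]
    fin_cases i
    · exact hg 2
    · exact hg 3
    · exact hg 4

theorem aut23 (hα : Fintype.card α = 23) {B : Set (Finset α)} (hB : IsSteinerSystem 4 7 B) :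
    IsM23 (setSystemAut B) ∧ IsMultiplyPretransitive (setSystemAut B) α 4 := by
  let p := H42.pt 23
  obtain ⟨j, h⟩ := exists_isDer23 hα hB p
  obtain ⟨φ, hφ⟩ := h.exists_mulEquiv_one
  refine ⟨⟨?_, by rw [← Nat.card_congr φ.toEquiv, H42.card_stab_pt]⟩, ?_⟩
  · have := H42.stab_pt_simple p
    exact φ.symm.isSimpleGroup
  · apply multTrans_of_forall
    intro x y hx hy
    have hn : ∀ a, p ≠ j a := fun a => by
      have := h.notMem a
      simp only [Finset.mem_singleton] at this
      exact Ne.symm this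
    have hi : ∀ x : Fin 4 → α, Function.Injective x →
        Function.Injective ![p, j (x 0), j (x 1), j (x 2), j (x 3)] := fun x hx =>
      H42.injective_five (hn _) (hn _) (hn _) (hn _)
        ((h.inj.comp hx).ne (by decide)) ((h.inj.comp hx).ne (by decide))
        ((h.inj.comp hx).ne (by decide)) ((h.inj.comp hx).ne (by decide))
        ((h.inj.comp hx).ne (by decide)) ((h.inj.comp hx).ne (by decide))
    obtain ⟨g, hg⟩ := H42.exists_smul_fun (k := 5) le_rfl _ _ (hi x hx) (hi y hy)
    refine ⟨(φ ⟨g, hg 0⟩).1, (φ ⟨g, hg 0⟩).2, fun i => h.inj ?_⟩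
    rw [hφ]
    fin_cases i
    · exact hg 1
    · exact hg 2
    · exact hg 3
    · exact hg 4

theorem aut24 (hα : Fintype.card α = 24) {B : Set (Finset α)} (hB : IsSteinerSystem 5 8 B) :
    IsM24 (setSystemAut B) ∧ IsMultiplyPretransitive (setSystemAut B) α 5 := by
  obtain ⟨e, he⟩ := iso24 hα H42.card_pt hB H42.octads_steiner
  have he' : mapB e B = octads := he
  have φ := (autEquiv e he').trans (MulEquiv.subgroupCongr H42.M24_eq_octad_aut.symm)
  refine ⟨⟨?_, by rw [Nat.card_congr φ.toEquiv, H42.card_M24]⟩, multTrans_mapB e he' ?_⟩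
  · have := H42.M24_simple
    exact φ.isSimpleGroup
  · rw [← H42.M24_eq_octad_aut]
    exact H42.five_transitive

end Cfsg.Agent.H45
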