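import Cfsg.Agent.H97.XSBase

/-!
# Extraspecial subgroup of index `p`: the dichotomy in case 2
-/

set_option autoImplicit false
set_option linter.unusedSectionVars false

namespace Cfsg.Agent.H45.XS

open Cfsg Cfsg.FusionSystem Cfsg.Agent.H97 Cfsg.Agent.H97.XS Cfsg.Agent.H98 Cfsg.Agent.H96
  Cfsg.Agent.H5 Subgroup
open scoped commutatorElement

universe u

variable {Ω : Type*} [Group Ω] {p : ℕ} [hp : Fact p.Prime] {S Q E : Subgroup Ω} [Finite S]
  {F : FusionSystem S} {z : Ω}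

/-- The centralizer in `Q` of the kernel of `x ↦ ⁅x, e⁆` consists of the commutators modulo `⟨z⟩`. -/
theorem cent_ker (h : XQ p S Q z) {e x : Ω} (he : e ∈ S) (hx : x ∈ Q)
    (hc : ∀ m ∈ Q, ⁅m, e⁆ ∈ zpowers z → Commute m x) :
    ∃ q ∈ Q, ∃ w ∈ zpowers z, x = ⁅q, e⁆ * w := by
  have := finite_of_le h.le
  have zz : ∀ {a b : Ω}, a ∈ Q → b ∈ Q →
      ⁅a, ⁅b, e⁆⁆ * ⁅⁅b, e⁆, ⁅a, e⁆⁆ ∈ zpowers z := fun ha hb =>
    Subgroup.mul_mem _ (h.comm _ ha _ (h.comm_mem hb he))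
      (h.comm _ (h.comm_mem hb he) _ (h.comm_mem ha he))
  have iv : ∀ {a : Ω}, a ∈ Q → ∃ w ∈ zpowers z, ⁅a, e⁆⁻¹ = ⁅a⁻¹, e⁆ * w := fun {a} ha => by
    have e1 := h.comm_mul_S ha (Q.inv_mem ha) he
    rw [mul_inv_cancel, commutatorElement_one_left, mul_assoc] at e1
    exact ⟨_, zz ha (Q.inv_mem ha), inv_eq_of_mul_eq_one_right e1.symm⟩
  let M : Subgroup Ω :=
    { carrier := {q | q ∈ Q ∧ ⁅q, e⁆ ∈ zpowers z}
      one_mem' := ⟨Q.one_mem, by simp⟩
      mul_mem' := fun {a b} ha hb => ⟨Q.mul_mem ha.1 hb.1, by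
        rw [h.comm_mul_S ha.1 hb.1 he]
        exact Subgroup.mul_mem _ (Subgroup.mul_mem _ ha.2 hb.2) (zz ha.1 hb.1)⟩
      inv_mem' := fun {a} ha => ⟨Q.inv_mem ha.1, by
        obtain ⟨w, hw, e1⟩ := iv ha.1
        rw [← mul_inv_eq_iff_eq_mul.2 e1]
        exact Subgroup.mul_mem _ (Subgroup.inv_mem _ ha.2) (Subgroup.inv_mem _ hw)⟩ }
  let R : Subgroup Ω :=
    { carrier := {x | ∃ q ∈ Q, ∃ w ∈ zpowers z, x = ⁅q, e⁆ * w}
      one_mem' := ⟨1, Q.one_mem, 1, Subgroup.one_mem _, by simp⟩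
      mul_mem' := by
        rintro _ _ ⟨a, ha, w, hw, rfl⟩ ⟨b, hb, w', hw', rfl⟩
        refine ⟨a * b, Q.mul_mem ha hb, _, Subgroup.mul_mem _ (Subgroup.inv_mem _ (zz ha hb))
          (Subgroup.mul_mem _ hw hw'), ?_⟩
        rw [h.comm_mul_S ha hb he, mul_assoc (⁅a, e⁆ * ⁅b, e⁆), mul_inv_cancel_left, mul_assoc,
          ← mul_assoc w, (h.zcomm hw (h.le (h.comm_mem hb he))).eq]
        simp only [mul_assoc]
      inv_mem' := by
        rintro _ ⟨a, ha, w, hw, rfl⟩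
        obtain ⟨w', hw', e1⟩ := iv ha
        refine ⟨a⁻¹, Q.inv_mem ha, w' * w⁻¹, Subgroup.mul_mem _ hw' (Subgroup.inv_mem _ hw), ?_⟩
        rw [mul_inv_rev, (h.zcomm (Subgroup.inv_mem _ hw) (h.le (Q.inv_mem (h.comm_mem ha he)))).eq,
          e1, mul_assoc] }
  have hMQ : M ≤ Q := fun _ ha => ha.1
  have hZM : zpowers z ≤ M := fun w hw => ⟨h.zle hw, by rw [h.comm_z_left hw he]; simp⟩
  have hZR : zpowers z ≤ R := fun w hw => ⟨1, Q.one_mem, w, hw, by simp⟩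
  have hRC : R ≤ centralizerIn Q M := by
    rintro _ ⟨a, ha, w, hw, rfl⟩
    refine mem_centralizerIn_comm.2 ⟨Q.mul_mem (h.comm_mem ha he) (h.zle hw), fun m hm => ?_⟩
    have e1 := h.invar ha hm.1 he
    rw [h.comm_z_right hm.2 (h.le ha), h.comm_z_right hm.2 (h.le (h.comm_mem ha he)), mul_one] at e1
    exact ((commutatorElement_eq_one_iff_commute.1 e1).symm.mul_right
      (h.zcomm hw (h.le hm.1)).symm).eq
  have hCQ : centralizerIn Q M ≤ Q := H97.centralizerIn_le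
  have := finite_of_le (hRC.trans hCQ)
  have := finite_of_le hCQ
  have := finite_of_le hMQ
  have i1 := h.dual hMQ
  have i2 : M.relIndex Q ≤ (zpowers z).relIndex R :=
    relIndex_le_relIndex_of_map (fun q => ⁅q, e⁆)
      (fun q hq => ⟨q, hq, 1, Subgroup.one_mem _, by simp⟩) fun a ha b hb hab => by
        have hab' := Q.mul_mem (Q.inv_mem ha) hb
        have e1 := h.comm_mul_S ha hab' he
        rw [mul_inv_cancel_left, mul_assoc, ← inv_mul_eq_iff_eq_mul, ← mul_inv_eq_iff_eq_mul] at e1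
        exact ⟨hab', e1 ▸ Subgroup.mul_mem _ hab (Subgroup.inv_mem _ (zz ha hab'))⟩
  have i3 := Subgroup.relIndex_mul_relIndex _ _ _ hZM hMQ
  have i4 := Subgroup.relIndex_mul_relIndex _ _ _ hZR (hRC.trans hCQ)
  have i5 := Subgroup.relIndex_mul_relIndex _ _ _ hRC hCQ
  have p1 : (zpowers z).relIndex Q ≠ 0 := Subgroup.index_ne_zero_of_finite
  have p2 : R.relIndex (centralizerIn Q M) ≠ 0 := Subgroup.index_ne_zero_of_finite
  have i6 : R.relIndex (centralizerIn Q M) = 1 := by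
    refine le_antisymm (Nat.le_of_mul_le_mul_left ?_ (Nat.pos_of_ne_zero p1)) (Nat.pos_of_ne_zero p2)
    calc (zpowers z).relIndex Q * R.relIndex (centralizerIn Q M)
        = (zpowers z).relIndex M * M.relIndex Q * R.relIndex (centralizerIn Q M) := by rw [i3]
      _ ≤ (centralizerIn Q M).relIndex Q * (zpowers z).relIndex R *
          R.relIndex (centralizerIn Q M) := Nat.mul_le_mul_right _ (Nat.mul_le_mul i1 i2)
      _ = (zpowers z).relIndex Q * 1 := by rw [← i4, ← i5]; ring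
  exact Subgroup.relIndex_eq_one.1 i6 (mem_centralizerIn_comm.2 ⟨hx, fun m hm => (hc m hm.1 hm.2).eq⟩)

theorem exists_eq (h : Loc p F Q E z) {γ : MulAut E} (heQ : ext γ z ∉ Q) {x : Ω} (hx : x ∈ E) :
    ∃ a ∈ E ⊓ Q, ∃ k : ℕ, x = a * ext γ z ^ k := by
  have := finite_of_le h.ES
  have he := ext_mem γ h.zE
  refine (mem_sup_zpowers_iff_nat (le_normalizer_of_relIndex_dvd (h.pS.to_le h.ES) inf_le_left
    h.idxH.dvd he) (isOfFinOrder_of_mem he)).1 ?_
  exact (sup_zpowers_eq_of_relIndex_dvd inf_le_left h.idxH.dvd he fun e => heQ e.2).ge hx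

theorem elem (h : Loc p F Q E z) (ho : Out2 F Q E z) :
    (∀ x ∈ E, ∀ y ∈ E, Commute x y) ∧ ∀ x ∈ E, x ^ p = 1 := by
  obtain ⟨γ, hγ, hm⟩ := h.mov
  have heQ : ext γ z ∉ Q := fun e => hm (ho γ hγ e)
  refine ⟨h.comm_of_comm_mem fun x hx y hy => ?_, h.pow_of_pow_mem fun x hx => ?_⟩
  · obtain ⟨a, ha, i, rfl⟩ := exists_eq h heQ hx
    obtain ⟨b, hb, j, rfl⟩ := exists_eq h heQ hy
    have c1 := ((h.ext_comm γ hy).pow_left i).eq
    have c2 := ((h.ext_comm γ ha.1).pow_left j).inv_right.eq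
    have : ⁅a * ext γ z ^ i, b * ext γ z ^ j⁆ = ⁅a, b⁆ := by
      simp only [commutatorElement_def]
      calc _ = a * (ext γ z ^ i * (b * ext γ z ^ j)) * (ext γ z ^ i)⁻¹ * a⁻¹ *
            (b * ext γ z ^ j)⁻¹ := by group
        _ = a * b * (ext γ z ^ j * a⁻¹) * (b * ext γ z ^ j)⁻¹ := by rw [c1]; group
        _ = _ := by rw [c2]; group
    rw [this]
    exact h.comm a ha.2 b hb.2
  · obtain ⟨a, ha, i, rfl⟩ := exists_eq h heQ hx
    rw [((h.ext_comm γ ha.1).pow_left i).symm.mul_pow, ← pow_mul, mul_comm i, pow_mul, h.ext_pow,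
      one_pow, mul_one]
    exact h.pow a ha.2

theorem pearl (h : Loc p F Q E z) (ho : Out2 F Q E z) {y₀ : Ω} (hy₀ : y₀ ∈ Q) (hy₀E : y₀ ∉ E)
    (hc₀ : ∀ x ∈ E, x ∈ Q → Commute x y₀) : Nat.card E = p ^ 2 := by
  obtain ⟨hc, hpw⟩ := elem h ho
  obtain ⟨γ, hγ, hm⟩ := h.mov
  have heQ : ext γ z ∉ Q := fun e => hm (ho γ hγ e)
  have hE := finite_of_le h.ES
  have pE := h.pS.to_le h.ES
  have heE := ext_mem γ h.zE
  have heS := h.ES heE
  set e := ext γ z with he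
  -- an element of `Q` outside `E` that normalizes `E` and centralizes `E ⊓ Q`
  obtain ⟨y, hyQ, hyE, hyN, hyc⟩ : ∃ y ∈ Q, y ∉ E ∧ y ∈ normalizer (E : Set Ω) ∧
      ∀ x ∈ E ⊓ Q, x * y = y * x := by
    have hEC : E ≤ centralizerIn S (E ⊓ Q) := fun x hx =>
      mem_centralizerIn_comm.2 ⟨h.ES hx, fun a ha => (hc a ha.1 x hx).eq⟩
    have := finite_of_le (H97.centralizerIn_le : centralizerIn S (E ⊓ Q) ≤ S)
    have hlt := lt_normalizerIn (h.pS.to_le (H97.centralizerIn_le : centralizerIn S (E ⊓ Q) ≤ S))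
      (lt_of_le_of_ne hEC fun e => hy₀E (e.ge (mem_centralizerIn_comm.2
        ⟨h.le hy₀, fun a ha => (hc₀ a ha.1 ha.2).eq⟩)))
    obtain ⟨g, hg, hgE⟩ := SetLike.exists_of_lt hlt
    obtain ⟨q, hq, k, rfl⟩ := h.exists_eq heS heQ (mem_centralizerIn_comm.1 hg.1).1
    have hk := E.pow_mem heE k
    refine ⟨q, hq, fun c => hgE (E.mul_mem c hk), ?_, ?_⟩
    · exact (Subgroup.mul_mem_cancel_right _ (le_normalizer hk)).1 hg.2
    · exact (mem_centralizerIn_comm.1 ((Subgroup.mul_mem_cancel_right _ (hEC hk)).1 hg.1)).2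
  have hyN' : y ∈ normalizerIn S E := ⟨h.le hyQ, hyN⟩
  have cQ : ∀ {q : Ω}, q ∈ Q → e⁻¹ * (q * e * q⁻¹) ∈ Q := fun {q} hq => by
    have := Q.mul_mem (h.conj_mem hq (S.inv_mem heS)) (Q.inv_mem hq)
    simpa [mul_assoc] using this
  have hd : e⁻¹ * (y * e * y⁻¹) ∈ E ⊓ Q := ⟨E.mul_mem (E.inv_mem heE) (nconj hyN heE), cQ hyQ⟩
  have hd1 : e⁻¹ * (y * e * y⁻¹) ≠ 1 := fun c => hyE (h.cent hγ hm (h.le hyQ)
    (mul_inv_eq_iff_eq_mul.1 (inv_mul_eq_one.1 c).symm))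
  set d := e⁻¹ * (y * e * y⁻¹) with hdd
  have ht : IsTv p (conjAut E hyN) (zpowers d) (E ⊓ Q) :=
    { card := by rw [Nat.card_zpowers, orderOf_eq_prime (hpw d hd.1) hd1]
      index := h.idxH
      le := zpowers_le.2 hd
      le' := inf_le_left
      comm := fun x hx => by
        obtain ⟨a, ha, k, rfl⟩ := exists_eq h heQ hx
        have e1 : y * e * y⁻¹ = e * d := by rw [hdd]; group
        rw [ext_conjAut hyN hx, ← mul_assoc y, ← hyc a ha, mul_assoc a, mul_assoc a, ← conj_pow, e1,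
          (hc e heE d hd.1).mul_pow]
        rw [← he, mul_inv_rev, mul_assoc, inv_mul_cancel_left, inv_mul_cancel_left]
        exact Subgroup.pow_mem _ (mem_zpowers d) k
      fix := fun x hx => by rw [ext_conjAut hyN hx.1, ← hyc x hx, mul_inv_cancel_right] }
  have ht' := ht.conj γ
  have hn := ess_not_pt_pair h.pS h.sat h.ess hγ (h.not_mem_extAut hm) hyN' hyE hyN' hyE
  have htA : conjAut E hyN ∈ F.autGroup E :=
    autInducedBy_le_autGroup F h.ES le_rfl (conjAut_mem_autInducedBy hyN'.1 hyN)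
  have htA' : γ * conjAut E hyN * γ⁻¹ ∈ F.autGroup E :=
    Subgroup.mul_mem _ (Subgroup.mul_mem _ hγ htA) (Subgroup.inv_mem _ hγ)
  obtain ⟨w, hw, w1, w2, w3, -, w5, w6⟩ := ht.exists_neg pE (fun x hx y hy => (hc x hx y hy).eq) ht' hn
  have hwA : w ∈ F.autGroup E := (Subgroup.closure_le _).2 (by
    rintro _ (rfl | rfl)
    exacts [htA, htA']) hw
  set H' := img (E ⊓ Q) (ext γ) with hH'
  have hH'E : H' ≤ E := ht'.le'
  have mH' : ∀ β ∈ F.autGroup E, ext β z ∈ H' → ext β z ∈ zpowers e := fun β hβ c => by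
    obtain ⟨a, ha, e1⟩ := ((homOn_ext γ).mono inf_le_left).mem_img.1 c
    have e2 : ext (γ⁻¹ * β) z = a := by rw [ext_mul, ← e1, ext_inv_ext]
    have h1 := ho _ (Subgroup.mul_mem _ (Subgroup.inv_mem _ hγ) hβ) (e2 ▸ ha.2)
    rw [← e1, ← e2]
    exact Loc.ext_zpowers h.zE (mem_zpowers _) h1
  have zH' : z ∉ H' := fun c => hm (by
    have := mH' 1 (Subgroup.one_mem _) (by simpa using c)
    simpa using h.ext_symm this)
  have zH : z ∈ E ⊓ Q := ⟨h.zE, h.zQ⟩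
  -- the centre of the transvection is `⟨z⟩`
  have hDZ : zpowers d = zpowers z := by
    obtain ⟨a, ha, c, hc', e1⟩ := (mem_sup_iff_of_le_normalizer (A := zpowers d) (B := E ⊓ Q ⊓ H')
      (fun x hx => centralizer_le_normalizer _ (mem_centralizer_iff.2 fun y hy =>
        (hc y (ht.le hy).1 x hx.1.1).eq))).1 (w3.ge zH)
    have haE := (ht.le ha).1
    have e2 : ext w z = a⁻¹ * c := by
      rw [e1, (homOn_ext w).map_mul haE hc'.1.1, w1 a (mem_sup_left ha), w2 c hc']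
    have h1 := ho w hwA (e2 ▸ Q.mul_mem (Q.inv_mem (ht.le ha).2) hc'.1.2)
    have h2 : a * a ∈ zpowers z := by
      have := Subgroup.mul_mem _ (mem_zpowers z) (Subgroup.inv_mem _ h1)
      rw [e2] at this
      nth_rewrite 2 [e1] at this
      simpa [mul_assoc] using this
    have h3 : a * a ≠ 1 := fun c => zH' (by
      have h4 : a = 1 := by
        have := Nat.dvd_gcd (orderOf_dvd_of_pow_eq_one (x := a) (n := 2) (by rw [sq, c]))
          (orderOf_dvd_of_pow_eq_one (hpw a haE))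
        rwa [(Nat.coprime_primes Nat.prime_two hp.out).2 h.odd.symm, Nat.dvd_one,
          orderOf_eq_one_iff] at this
      rw [e1, h4, one_mul]
      exact hc'.2)
    rw [← zpowers_eq_of_card_eq ht.card (Subgroup.mul_mem _ ha ha) h3,
      zpowers_eq_of_card_eq h.card_z h2 h3]
  have hD' : img (zpowers d) (ext γ) = zpowers e := by
    rw [hDZ]
    exact (zpowers_eq_of_card_eq (hDZ ▸ ht'.card) (mem_img_of_mem _ (mem_zpowers z))
      (h.ext_ne γ)).symm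
  rw [hD'] at ht' w6
  rw [hDZ] at w5
  have t1 : γ * conjAut E hyN * γ⁻¹ ≠ 1 := fun c => ess_conjAut_ne_one h.ess hyN' hyE (by
    simpa using (conj_eq_one_iff.1 c))
  -- all conjugates of `z` lie in `⟨z, e⟩`
  have hW : ∀ β ∈ F.autGroup E, ∃ a ∈ zpowers z, ∃ b ∈ zpowers e, ext β z = a * b := fun β hβ => by
    by_cases c : ext β z ∈ H'
    · exact ⟨1, Subgroup.one_mem _, _, mH' β hβ c, by simp⟩
    have hv := ext_mem β h.zE
    obtain ⟨k, hk⟩ := ht'.exists_pow_mem pE t1 (Z' := E ⊓ Q) inf_le_left h.idxH.dvd (mem_zpowers e)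
      (fun c => heQ c.2) hv c
    have h1 := ho _ (Subgroup.mul_mem _ (Subgroup.pow_mem _ htA' k) hβ) (by rw [ext_mul]; exact hk.2)
    rw [ext_mul, ht'.ext_pow hv] at h1
    exact ⟨_, h1, _, Subgroup.inv_mem _ (Subgroup.pow_mem _ (ht'.comm _ hv) k), by simp⟩
  have hNZ : ∀ q ∈ Q, ⁅q, e⁆ ∈ E → ⁅q, e⁆ ∈ zpowers z := fun q hq c => by
    have hqN : q ∈ normalizer (E : Set Ω) := H96.mem_normalizer_of_conj_mem fun x hx => by
      obtain ⟨a, ha, k, rfl⟩ := exists_eq h heQ hx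
      have e1 : q * (a * e ^ k) * q⁻¹ = ⁅q, a⁆ * a * (⁅q, e⁆ * e) ^ k := by
        rw [show ⁅q, e⁆ * e = q * e * q⁻¹ by rw [commutatorElement_def]; group, conj_pow,
          commutatorElement_def]
        group
      rw [e1]
      exact E.mul_mem (E.mul_mem (h.zleE (h.comm q hq a ha.2)) ha.1) (E.pow_mem (E.mul_mem c heE) k)
    obtain ⟨a, ha, b, hb, e1⟩ := hW (conjAut E hqN * γ) (Subgroup.mul_mem _
      (autInducedBy_le_autGroup F h.ES le_rfl (conjAut_mem_autInducedBy (h.le hq) hqN)) hγ)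
    rw [ext_mul, ext_conjAut hqN heE] at e1
    have e2 : ⁅q, e⁆ = a * (b * e⁻¹) := by rw [commutatorElement_def, e1, mul_assoc]
    have h1 : b * e⁻¹ ∈ zpowers e := Subgroup.mul_mem _ hb (Subgroup.inv_mem _ (mem_zpowers e))
    have h2 : b * e⁻¹ ∈ Q := (Subgroup.mul_mem_cancel_left _ (h.zle ha)).1 (e2 ▸ h.comm_mem hq heS)
    have h3 : b * e⁻¹ = 1 := mem_bot.1 (w6.le ⟨h1, zpowers_le.2 heE h1, h2⟩)
    rw [e2, h3, mul_one]
    exact ha
  have hye : ⁅y, e⁆ ∈ zpowers z := hNZ y hyQ (E.mul_mem (nconj hyN heE) (E.inv_mem heE))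
  have hye1 : ⁅y, e⁆ ≠ 1 := fun c => hyE (h.cent hγ hm (h.le hyQ)
    (commutatorElement_eq_one_iff_commute.1 c))
  have hyk : ∀ k : ℕ, ⁅y ^ k, e⁆ = ⁅y, e⁆ ^ k := fun k => by
    induction k with
    | zero => simp
    | succ k ih =>
      rw [pow_succ, h.comm_mul_S (Q.pow_mem hyQ k) hyQ heS, h.comm_z_right hye (h.le (Q.pow_mem hyQ k)),
        h.comm_z_left hye (h.le (h.comm_mem (Q.pow_mem hyQ k) heS)), ih, mul_one, mul_one, pow_succ]
  have hHZ : E ⊓ Q ≤ zpowers z := fun x hx => by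
    obtain ⟨q, hq, w, hw, e1⟩ := cent_ker h.toXQ heS hx.2 fun m hm hme => by
      obtain ⟨k, hk⟩ := (isOfFinOrder_of_mem (h.le (h.comm_mem hyQ heS))).mem_powers_iff_mem_zpowers.2
        (mem_zpowers_of_card_eq h.card_z hye hye1 hme)
      have e2 : ⁅y ^ k, e⁆ = ⁅m, e⁆ := (hyk k).trans hk
      have h1 : (y ^ k)⁻¹ * m ∈ E := h.cent hγ ‹_› (h.le (Q.mul_mem (Q.inv_mem (Q.pow_mem hyQ k)) hm))
        (by
          simp only [commutatorElement_def, mul_left_inj] at e2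
          show (y ^ k)⁻¹ * m * e = e * ((y ^ k)⁻¹ * m)
          calc (y ^ k)⁻¹ * m * e = (y ^ k)⁻¹ * (m * e * m⁻¹) * m := by group
            _ = _ := by rw [← e2]; group)
      rw [← mul_inv_cancel_left (y ^ k) m]
      exact (Commute.pow_left (hyc x hx).symm k).mul_left (hc _ h1 x hx.1)
    have h1 : ⁅q, e⁆ ∈ E := (Subgroup.mul_mem_cancel_right _ (h.zleE hw)).1 (e1 ▸ hx.1)
    rw [e1]
    exact Subgroup.mul_mem _ (hNZ q hq h1) hw
  rw [← card_mul_relIndex' (inf_le_left : E ⊓ Q ≤ E), h.idxH,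
    le_antisymm hHZ (zpowers_le.2 zH), h.card_z, sq]

theorem c2a : C2aStmt.{u} := by
  intro Ω _ p _ S Q E _ F z h ho
  refine ⟨(elem h ho).1, (elem h ho).2, or_iff_not_imp_right.2 fun c => ?_⟩
  push Not at c
  obtain ⟨y, hy, h1, h2⟩ := c
  exact pearl h ho hy h2 h1

end Cfsg.Agent.H45.XS
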